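import Mathlib
import Cfsg.Agent.Lib.Char.SelfCentChars
import Cfsg.Agent.Lib.Block.ClassMul
import Cfsg.Agent.Lib.Block.KleinFour

/-!
A self-centralizing element of order three inverted by an involution: the three characters not
vanishing on it and two class multiplication constants.
-/

set_option autoImplicit false
set_option linter.style.haveILetI false
set_option linter.unusedSectionVars false

namespace Cfsg.Agent.Fus.SCThree

open Cfsg Cfsg.Agent.Char Cfsg.Agent.Block
open scoped ComplexConjugate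

universe u

variable {G : Type u} [Group G] [Fintype G] {x : G}

/-- The three characters not vanishing at `x`, with degrees `1`, `f`, `f + 1`. -/
theorem three_chars (h : SCP.Hyp 3 x)
    (h6 : Nat.card (Subgroup.normalizer (Subgroup.zpowers x : Set G)) = 6) :
    ∃ (A B : IrrCharacter G) (f : ℕ), 0 < f ∧ f * (f + 1) ∣ Nat.card G ∧
      (A : G → ℂ) 1 = (f : ℂ) ∧ (B : G → ℂ) 1 = (f : ℂ) + 1 ∧
      (A : G → ℂ) x = 1 ∧ (B : G → ℂ) x = -1 ∧
      ∀ g : IrrCharacter G → ℂ, ∑ χ : IrrCharacter G, g χ * (χ : G → ℂ) x =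
        g (trivialIrr G) + g A - g B := by
  classical
  haveI := Fact.mk Nat.prime_three
  have he : SCP.e x = 2 := by
    have h1 := SCP.card_N h
    rw [show Nat.card (SCP.N x) = 6 from h6] at h1
    omega
  obtain ⟨X, Y, c, ε, hc⟩ := SCP.exists_chars h
  rw [he] at hc
  have hY : Y.card = 1 := by have := hc.card_Y; omega
  have hS : (X ∪ Y).card = 3 := by rw [Finset.card_union_of_disjoint hc.disj, hc.card_X, hY]
  have hval : ∀ χ ∈ X ∪ Y, (χ : G → ℂ) x = 1 ∨ (χ : G → ℂ) x = -1 := by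
    intro χ hχ
    rcases Finset.mem_union.mp hχ with hm | hm
    · rw [hc.value χ hm x h.ord]
      rcases hc.c_sign χ hm with e | e <;> simp [e]
    · rw [hc.value_Y rfl χ hm x h.ord]
      rcases hc.ε_sign with e | e <;> simp [e]
  have hcard : ((X ∪ Y).erase (trivialIrr G)).card = 2 := by
    rw [Finset.card_erase_of_mem hc.trivial_mem, hS]
  obtain ⟨P, Q, hPQ, hPQe⟩ := Finset.card_eq_two.mp hcard
  have hP : P ∈ (X ∪ Y).erase (trivialIrr G) := by rw [hPQe]; simp
  have hQ : Q ∈ (X ∪ Y).erase (trivialIrr G) := by rw [hPQe]; simp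
  have h1x : ((trivialIrr G : IrrCharacter G) : G → ℂ) x = 1 := rfl
  have hsum : ∀ g : IrrCharacter G → ℂ, ∑ χ : IrrCharacter G, g χ * (χ : G → ℂ) x =
      g (trivialIrr G) + g P * (P : G → ℂ) x + g Q * (Q : G → ℂ) x := by
    intro g
    rw [← Finset.sum_subset (Finset.subset_univ (X ∪ Y)) fun χ _ hχ => by
      rw [hc.vanish χ hχ x h.ord, mul_zero],
      ← Finset.add_sum_erase _ _ hc.trivial_mem, hPQe, Finset.sum_pair hPQ, h1x, mul_one]
    ring
  have hreal : ∀ χ : IrrCharacter G, conj ((χ : G → ℂ) x) = (χ : G → ℂ) x := by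
    intro χ
    by_cases hm : χ ∈ X ∪ Y
    · rcases hval χ hm with e | e <;> simp [e]
    · simp [hc.vanish χ hm x h.ord]
  have hrel := sum_irr_mul_conj (1 : G) x
  rw [if_neg (fun e => SCP.ne_one h (isConj_one_right.mp e)),
    Finset.sum_congr rfl fun χ _ => by rw [hreal χ], hsum] at hrel
  have hdP := Block.charDeg_spec' P
  have hdQ := Block.charDeg_spec' Q
  rw [show ((trivialIrr G : IrrCharacter G) : G → ℂ) 1 = 1 from rfl, hdP, hdQ] at hrel
  set dP := charDegree (P : G → ℂ)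
  set dQ := charDegree (Q : G → ℂ)
  have hposP : 0 < dP := Block.charDeg_pos P
  have hposQ : 0 < dQ := Block.charDeg_pos Q
  rcases hval P (Finset.mem_of_mem_erase hP) with eP | eP <;>
    rcases hval Q (Finset.mem_of_mem_erase hQ) with eQ | eQ <;> rw [eP, eQ] at hrel
  · exfalso
    have : ((1 + dP + dQ : ℕ) : ℂ) = 0 := by push_cast; linear_combination hrel
    norm_cast at this
    omega
  · have hd : dQ = dP + 1 := by
      have : ((dQ : ℕ) : ℂ) = ((dP + 1 : ℕ) : ℂ) := by push_cast; linear_combination -hrel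
      exact_mod_cast this
    refine ⟨P, Q, dP, hposP, ?_, hdP, by rw [hdQ, hd]; push_cast; ring, eP, eQ, fun g => ?_⟩
    · rw [← hd]
      exact Nat.Coprime.mul_dvd_of_dvd_of_dvd
        (hd ▸ Nat.coprime_self_add_right.mpr (Nat.coprime_one_right _))
        (Block.charDeg_dvd P) (Block.charDeg_dvd Q)
    · rw [hsum, eP, eQ]; ring
  · have hd : dP = dQ + 1 := by
      have : ((dP : ℕ) : ℂ) = ((dQ + 1 : ℕ) : ℂ) := by push_cast; linear_combination -hrel
      exact_mod_cast this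
    refine ⟨Q, P, dQ, hposQ, ?_, hdQ, by rw [hdP, hd]; push_cast; ring, eQ, eP, fun g => ?_⟩
    · rw [← hd]
      exact Nat.Coprime.mul_dvd_of_dvd_of_dvd
        (hd ▸ Nat.coprime_self_add_right.mpr (Nat.coprime_one_right _))
        (Block.charDeg_dvd Q) (Block.charDeg_dvd P)
    · rw [hsum, eP, eQ]; ring
  · exfalso
    have : ((dP + dQ : ℕ) : ℂ) = ((1 : ℕ) : ℂ) := by push_cast; linear_combination -hrel
    norm_cast at this
    omega

/-- Conjugating elements with a prescribed value. -/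
theorem card_conj_fiber (x : G) (p : G → Prop) [DecidablePred p] :
    (Finset.univ.filter fun g : G => p (g * x * g⁻¹)).card =
      Nat.card (Subgroup.centralizer ({x} : Set G)) * Nat.card {u : G // IsConj x u ∧ p u} := by
  classical
  rw [Finset.card_eq_sum_card_fiberwise (f := fun g : G => g * x * g⁻¹)
    (t := Finset.univ.filter fun u => IsConj x u ∧ p u)]
  · rw [Finset.sum_const_nat (m := Nat.card (Subgroup.centralizer ({x} : Set G)))]
    · rw [Nat.card_eq_fintype_card (α := {u : G // IsConj x u ∧ p u}), Fintype.card_subtype, mul_comm]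
    intro u hu
    simp only [Finset.mem_filter, Finset.mem_univ, true_and] at hu
    obtain ⟨g₀, hg₀⟩ := _root_.isConj_iff.mp hu.1
    rw [Nat.card_eq_fintype_card, ← Fintype.card_coe]
    refine Fintype.card_congr (Equiv.subtypeEquiv (Equiv.mulLeft g₀⁻¹) fun g => ?_)
    simp only [Finset.mem_filter, Finset.mem_univ, true_and, Equiv.coe_mulLeft,
      Subgroup.mem_centralizer_singleton_iff]
    constructor
    · rintro ⟨-, hg⟩
      rw [← hg₀] at hg
      calc g₀⁻¹ * g * x = g₀⁻¹ * (g * x * g⁻¹) * g := by group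
        _ = x * (g₀⁻¹ * g) := by rw [hg]; group
    · intro hg
      have hgu : g * x * g⁻¹ = u := by
        rw [← hg₀]
        calc g * x * g⁻¹ = g₀ * (g₀⁻¹ * g * x) * g⁻¹ := by group
          _ = g₀ * x * g₀⁻¹ := by rw [hg]; group
      exact ⟨hgu ▸ hu.2, hgu⟩
  · intro g hg
    simp only [Finset.coe_filter, Finset.mem_univ, true_and, Set.mem_ofPred_eq] at hg ⊢
    exact ⟨_root_.isConj_iff.mpr ⟨g, rfl⟩, hg⟩

/-- The number of ways of writing `x` as a product of two of its conjugates. -/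
theorem pair_count (h : SCP.Hyp 3 x)
    (h6 : Nat.card (Subgroup.normalizer (Subgroup.zpowers x : Set G)) = 6) (hrat : IsConj x x⁻¹) :
    ∃ n : ℕ, 0 < n ∧ 9 * Nat.card {u : G // IsConj x u ∧ IsConj x (u⁻¹ * x)} * n =
      Nat.card G * (n + 1) := by
  classical
  obtain ⟨A, B, f, hf, -, hA1, hB1, hAx, hBx, hsum⟩ := three_chars h h6
  refine ⟨f * (f + 1), Nat.mul_pos hf (by omega), ?_⟩
  have hC : Nat.card (Subgroup.centralizer ({x} : Set G)) = 3 := by
    rw [h.cent, Nat.card_zpowers, h.ord]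
  have key : ∑ g : G, ∑ χ : IrrCharacter G,
      conj ((χ : G → ℂ) x) * (χ : G → ℂ) (x * (g * x⁻¹ * g⁻¹)) =
      ∑ χ : IrrCharacter G, conj ((χ : G → ℂ) x) * ((Nat.card G : ℂ) * (χ : G → ℂ) x *
        (χ : G → ℂ) x⁻¹ / (χ : G → ℂ) 1) := by
    rw [Finset.sum_comm]
    refine Finset.sum_congr rfl fun χ _ => ?_
    rw [← Finset.mul_sum, Block.sum_mul_conj χ x x⁻¹]
  have hinner : ∀ g : G, ∑ χ : IrrCharacter G,
      conj ((χ : G → ℂ) x) * (χ : G → ℂ) (x * (g * x⁻¹ * g⁻¹)) =
      if IsConj x ((g * x * g⁻¹)⁻¹ * x) then (3 : ℂ) else 0 := by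
    intro g
    rw [Finset.sum_congr rfl fun χ _ => mul_comm _ _, sum_irr_mul_conj, hC]
    have e : IsConj (x * (g * x⁻¹ * g⁻¹)) x ↔ IsConj x ((g * x * g⁻¹)⁻¹ * x) := by
      have h1 : IsConj ((g * x * g⁻¹)⁻¹ * x) (x * (g * x⁻¹ * g⁻¹)) :=
        _root_.isConj_iff.mpr ⟨x, by group⟩
      exact ⟨fun h2 => (h1.trans h2).symm, fun h2 => h1.symm.trans h2.symm⟩
    split_ifs with h1 h2 h2
    · norm_num
    · exact absurd (e.mp h1) h2
    · exact absurd (e.mpr h2) h1
    · rfl
  rw [Finset.sum_congr rfl fun g _ => hinner g, ← Finset.sum_filter, Finset.sum_const, nsmul_eq_mul,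
    card_conj_fiber x (fun u => IsConj x (u⁻¹ * x)), hC] at key
  have hxinv : ∀ χ : IrrCharacter G, (χ : G → ℂ) x⁻¹ = (χ : G → ℂ) x := fun χ =>
    (IsClass.eq_of_isConj (IsIrr.classFun χ.2) hrat).symm
  rw [Finset.sum_congr rfl (g := fun χ : IrrCharacter G =>
    (conj ((χ : G → ℂ) x) * ((Nat.card G : ℂ) * (χ : G → ℂ) x / (χ : G → ℂ) 1)) * (χ : G → ℂ) x)
    fun χ _ => by rw [hxinv]; ring, hsum, hA1, hB1, hAx, hBx,
    show ((trivialIrr G : IrrCharacter G) : G → ℂ) x = 1 from rfl,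
    show ((trivialIrr G : IrrCharacter G) : G → ℂ) 1 = 1 from rfl] at key
  have hf0 : (f : ℂ) ≠ 0 := Nat.cast_ne_zero.mpr hf.ne'
  have hf1 : (f : ℂ) + 1 ≠ 0 := Nat.cast_add_one_ne_zero f
  apply Nat.cast_injective (R := ℂ)
  push_cast at key ⊢
  simp only [map_one, map_neg] at key
  field_simp at key
  linear_combination key

/-- The equation coming from products of two conjugates of the inverting involution. -/
theorem involution_equation (h : SCP.Hyp 3 x)
    (h6 : Nat.card (Subgroup.normalizer (Subgroup.zpowers x : Set G)) = 6)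
    {t : G} (ht : t * t = 1) (ht1 : t ≠ 1) (htx : t * x * t⁻¹ = x⁻¹) :
    ∃ (n f c : ℕ) (D : ℤ), n = f * (f + 1) ∧ 0 < f ∧ 0 < c ∧ n ∣ Nat.card G ∧
      (Nat.card G : ℤ) * D ^ 2 = 3 * (c : ℤ) ^ 2 * n := by
  classical
  obtain ⟨A, B, f, hf, hfd, hA1, hB1, hAx, hBx, hsum⟩ := three_chars h h6
  obtain ⟨a, ha⟩ := Block.char_involution_int A ht
  obtain ⟨b, hb⟩ := Block.char_involution_int B ht
  set c := Nat.card (Subgroup.centralizer ({t} : Set G)) with hcdef
  refine ⟨f * (f + 1), f, c, (f : ℤ) - a, rfl, hf, Nat.card_pos, hfd, ?_⟩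
  have hnc : ¬ IsConj t x := fun e => by
    obtain ⟨g, hg⟩ := _root_.isConj_iff.mp e
    have : x * x = 1 := by
      rw [← hg, show g * t * g⁻¹ * (g * t * g⁻¹) = g * (t * t) * g⁻¹ by group, ht, mul_one,
        mul_inv_cancel]
    have h2 : orderOf x ∣ 2 := orderOf_dvd_of_pow_eq_one (by rw [pow_two]; exact this)
    rw [h.ord] at h2
    omega
  have hrel := sum_irr_mul_conj x t
  rw [if_neg (fun e => hnc e.symm), Finset.sum_congr rfl fun χ _ => mul_comm _ _, hsum] at hrel
  have h1t : ((trivialIrr G : IrrCharacter G) : G → ℂ) t = 1 := rfl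
  rw [h1t, ha, hb, map_one, map_intCast, map_intCast] at hrel
  have hab : b = a + 1 := by
    have : ((b : ℤ) : ℂ) = ((a + 1 : ℤ) : ℂ) := by push_cast; linear_combination -hrel
    exact_mod_cast this
  have key : ∑ g : G, ∑ χ : IrrCharacter G,
      conj ((χ : G → ℂ) t) * (χ : G → ℂ) (x * (g * t * g⁻¹)) =
      ∑ χ : IrrCharacter G, conj ((χ : G → ℂ) t) * ((Nat.card G : ℂ) * (χ : G → ℂ) x *
        (χ : G → ℂ) t / (χ : G → ℂ) 1) := by
    rw [Finset.sum_comm]
    refine Finset.sum_congr rfl fun χ _ => ?_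
    rw [← Finset.mul_sum, Block.sum_mul_conj χ x t]
  have hinner : ∀ g : G, ∑ χ : IrrCharacter G,
      conj ((χ : G → ℂ) t) * (χ : G → ℂ) (x * (g * t * g⁻¹)) =
      if IsConj t (x * (g * t * g⁻¹)) then (c : ℂ) else 0 := by
    intro g
    rw [Finset.sum_congr rfl fun χ _ => mul_comm _ _, sum_irr_mul_conj]
    split_ifs with h1 h2 h2
    · rfl
    · exact absurd h1.symm h2
    · exact absurd h2.symm h1
    · rfl
  haveI := Fact.mk Nat.prime_three
  have hx3 : x ^ 3 = 1 := h.ord ▸ pow_orderOf_eq_one x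
  have hset : Nat.card {s : G // IsConj t s ∧ IsConj t (x * s)} = 3 := by
    have htx' : ∀ i : ℕ, t * x ^ i = (x ^ i)⁻¹ * t := fun i => by
      have h1 : t * x ^ i * t⁻¹ = (x ^ i)⁻¹ := by rw [← conj_pow, htx, inv_pow]
      exact mul_inv_eq_iff_eq_mul.mp h1
    have hconj : ∀ i : ℕ, IsConj t (t * x ^ i) := fun i => by
      refine _root_.isConj_iff.mpr ⟨x ^ i, ?_⟩
      have h2 : t * (x ^ i)⁻¹ = x ^ i * t := by
        calc t * (x ^ i)⁻¹ = x ^ i * ((x ^ i)⁻¹ * t) * (x ^ i)⁻¹ := by group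
          _ = x ^ i * (t * x ^ i) * (x ^ i)⁻¹ := by rw [htx' i]
          _ = _ := by group
      rw [mul_assoc, h2, ← mul_assoc, ← pow_add, htx',
        show (x ^ i)⁻¹ = x ^ (i + i) by
          rw [inv_eq_of_mul_eq_one_right]
          rw [← pow_add, show i + (i + i) = 3 * i by ring, pow_mul, hx3, one_pow]]
    refine Eq.trans ?_ (Nat.card_fin 3)
    refine (Nat.card_congr (Equiv.ofBijective (fun i : Fin 3 =>
      (⟨t * x ^ (i : ℕ), hconj _, ?_⟩ : {s : G // IsConj t s ∧ IsConj t (x * s)})) ⟨?_, ?_⟩)).symm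
    · have e : x * (t * x ^ (i : ℕ)) = t * x ^ ((i : ℕ) + 2) := by
        have h2 := htx' 2
        rw [show (x ^ 2)⁻¹ = x by
          rw [inv_eq_of_mul_eq_one_right]
          rw [← pow_succ, hx3]] at h2
        rw [← mul_assoc, ← h2, mul_assoc, ← pow_add, add_comm]
      rw [e]
      exact hconj _
    · intro i j hij
      have h1 : x ^ (i : ℕ) = x ^ (j : ℕ) := mul_left_cancel (congrArg Subtype.val hij)
      exact Fin.ext (pow_injOn_Iio_orderOf (by simp [h.ord]) (by simp [h.ord]) h1)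
    · rintro ⟨s, hs1, hs2⟩
      obtain ⟨g₁, rfl⟩ := _root_.isConj_iff.mp hs1
      obtain ⟨g₂, hg₂⟩ := _root_.isConj_iff.mp hs2
      set s := g₁ * t * g₁⁻¹ with hsdef
      have hss : s * s = 1 := by
        rw [hsdef, show g₁ * t * g₁⁻¹ * (g₁ * t * g₁⁻¹) = g₁ * (t * t) * g₁⁻¹ by group, ht, mul_one,
          mul_inv_cancel]
      have hxs : x * s * (x * s) = 1 := by
        rw [← hg₂, show g₂ * t * g₂⁻¹ * (g₂ * t * g₂⁻¹) = g₂ * (t * t) * g₂⁻¹ by group, ht, mul_one,
          mul_inv_cancel]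
      have hsx : s * x * s = x⁻¹ := eq_inv_of_mul_eq_one_right (by rw [← hxs]; group)
      have hc : (t * s) * x = x * (t * s) := by
        have h3 : s * x = x⁻¹ * s := by
          calc s * x = s * x * (s * s) := by rw [hss, mul_one]
            _ = (s * x * s) * s := by group
            _ = _ := by rw [hsx]
        have h4 : t * x⁻¹ = x * t := by
          have h5 := congrArg Inv.inv htx
          rw [inv_inv, mul_inv_rev, mul_inv_rev, inv_inv, inv_eq_of_mul_eq_one_left ht, ← mul_assoc] at h5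
          calc t * x⁻¹ = t * x⁻¹ * (t * t) := by rw [ht, mul_one]
            _ = t * x⁻¹ * t * t := by group
            _ = _ := by rw [h5]
        rw [mul_assoc, h3, ← mul_assoc, h4, mul_assoc]
      obtain ⟨k, hk, hk'⟩ : ∃ k, k < 3 ∧ x ^ k = t * s := by
        have h5 := SCP.mem_P_of_comm h hc
        rw [(isOfFinOrder_of_finite x).mem_zpowers_iff_mem_range_orderOf, h.ord] at h5
        simpa using h5
      exact ⟨⟨k, hk⟩, Subtype.ext (by
        show t * x ^ k = s
        rw [hk', ← mul_assoc, ht, one_mul])⟩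
  rw [Finset.sum_congr rfl fun g _ => hinner g, ← Finset.sum_filter, Finset.sum_const, nsmul_eq_mul,
    card_conj_fiber t (fun s => IsConj t (x * s)), hset, ← hcdef] at key
  rw [Finset.sum_congr rfl (g := fun χ : IrrCharacter G =>
    (conj ((χ : G → ℂ) t) * ((Nat.card G : ℂ) * (χ : G → ℂ) t / (χ : G → ℂ) 1)) * (χ : G → ℂ) x)
    fun χ _ => by ring, hsum, hA1, hB1, h1t, ha, hb,
    show ((trivialIrr G : IrrCharacter G) : G → ℂ) 1 = 1 from rfl, hab] at key
  have hf0 : (f : ℂ) ≠ 0 := Nat.cast_ne_zero.mpr hf.ne'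
  have hf1 : (f : ℂ) + 1 ≠ 0 := Nat.cast_add_one_ne_zero f
  apply Int.cast_injective (α := ℂ)
  push_cast at key ⊢
  simp only [map_one, map_add, map_intCast] at key
  field_simp at key
  linear_combination -key

end Cfsg.Agent.Fus.SCThree
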