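import Mathlib

/-!
The subgroups of the alternating group of degree five of order prime to three normalized by an
element of order three.
-/

set_option autoImplicit false
set_option linter.style.haveILetI false
set_option maxHeartbeats 1000000
set_option maxRecDepth 10000

namespace Cfsg.Agent.Fus.SCThree

open Equiv

/-- The standard element of order three. -/
def a5c : alternatingGroup (Fin 5) := ⟨swap 0 1 * swap 1 2, Equiv.Perm.mem_alternatingGroup.mpr (by decide)⟩

/-- The two four-groups normalized by `a5c`. -/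
def inFour (i : Fin 2) (v : alternatingGroup (Fin 5)) : Prop :=
  v.1 (![4, 3] i) = ![4, 3] i ∧ v * v = 1

instance (i : Fin 2) (v : alternatingGroup (Fin 5)) : Decidable (inFour i v) := by
  unfold inFour; infer_instance

theorem inFour_mul : ∀ (i : Fin 2) (v w : alternatingGroup (Fin 5)),
    inFour i v → inFour i w → inFour i (v * w) := by
  unfold inFour
  decide +kernel

theorem inFour_conj : ∀ (i : Fin 2) (v : alternatingGroup (Fin 5)),
    inFour i v → inFour i (a5c * v * a5c⁻¹) := by
  unfold inFour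
  decide +kernel

/-- A word in `v` and its two conjugates has order three. -/
def hasThree (v : alternatingGroup (Fin 5)) : Prop :=
  let b := a5c * v * a5c⁻¹
  let c := a5c * b * a5c⁻¹
  (v * b ≠ 1 ∧ (v * b) ^ 3 = 1) ∨ (v * b * v * b * c ≠ 1 ∧ (v * b * v * b * c) ^ 3 = 1) ∨
    (v * b * v * c * b ≠ 1 ∧ (v * b * v * c * b) ^ 3 = 1)

instance (v : alternatingGroup (Fin 5)) : Decidable (hasThree v) := by unfold hasThree; infer_instance

theorem four_or_three : ∀ v : alternatingGroup (Fin 5), inFour 0 v ∨ inFour 1 v ∨ hasThree v := by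
  decide +kernel

theorem four_cross : ∀ v w : alternatingGroup (Fin 5), inFour 0 v → inFour 1 w → v ≠ 1 → w ≠ 1 →
    ¬ inFour 0 (v * w) ∧ ¬ inFour 1 (v * w) := by
  decide +kernel

theorem exists_conj_a5c : ∀ y : alternatingGroup (Fin 5), y ^ 3 = 1 → y ≠ 1 →
    ∃ g : alternatingGroup (Fin 5), g * y * g⁻¹ = a5c := by
  decide +kernel

theorem card_inFour : ∀ i : Fin 2, (Finset.univ.filter (inFour i)).card = 4 := by
  decide +kernel

/-- The four-group as a subgroup. -/
def fourSub (i : Fin 2) : Subgroup (alternatingGroup (Fin 5)) where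
  carrier := {v | inFour i v}
  one_mem' := ⟨rfl, one_mul 1⟩
  mul_mem' := fun h h' => inFour_mul i _ _ h h'
  inv_mem' := fun {v} h => by
    show inFour i v⁻¹
    rwa [inv_eq_of_mul_eq_one_left h.2]

theorem card_fourSub (i : Fin 2) : Nat.card (fourSub i) = 4 := by
  classical
  refine Eq.trans ?_ (card_inFour i)
  rw [← Fintype.card_subtype, ← Nat.card_eq_fintype_card]
  rfl

theorem a5c_mem_normalizer (i : Fin 2) :
    a5c ∈ Subgroup.normalizer (fourSub i : Set (alternatingGroup (Fin 5))) := by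
  rw [Subgroup.mem_normalizer_iff]
  intro v
  refine ⟨inFour_conj i v, fun h => ?_⟩
  have h1 := inFour_conj i _ (inFour_conj i _ h)
  have h3 : a5c ^ 3 = 1 := by decide +kernel
  have e : a5c * (a5c * (a5c * v * a5c⁻¹) * a5c⁻¹) * a5c⁻¹ = a5c ^ 3 * v * (a5c ^ 3)⁻¹ := by
    simp only [pow_succ, pow_zero]; group
  rw [e, h3] at h1
  show inFour i v
  simpa using h1

theorem le_fourSub {E : Subgroup (alternatingGroup (Fin 5))} (hE : ¬ 3 ∣ Nat.card E)
    (hn : a5c ∈ Subgroup.normalizer (E : Set (alternatingGroup (Fin 5)))) :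
    E ≤ fourSub 0 ∨ E ≤ fourSub 1 := by
  have hconj : ∀ v ∈ E, a5c * v * a5c⁻¹ ∈ E := fun v hv =>
    (Subgroup.mem_normalizer_iff.mp hn v).mp hv
  have key : ∀ v ∈ E, inFour 0 v ∨ inFour 1 v := by
    intro v hv
    rcases four_or_three v with h | h | h
    · exact Or.inl h
    · exact Or.inr h
    · exfalso
      set b := a5c * v * a5c⁻¹
      have hb : b ∈ E := hconj v hv
      set c := a5c * b * a5c⁻¹
      have hc : c ∈ E := hconj b hb
      have hno : ∀ w ∈ E, w ≠ 1 → w ^ 3 ≠ 1 := fun w hw hw1 h3 => hE (by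
        haveI := Fact.mk Nat.prime_three
        exact orderOf_eq_prime h3 hw1 ▸ Subgroup.orderOf_dvd_natCard E hw)
      have m1 := mul_mem hv hb
      rcases h with h | h | h
      · exact hno _ m1 h.1 h.2
      · exact hno _ (mul_mem (mul_mem m1 (hv)) hb |> fun m => mul_mem m hc) h.1 h.2
      · exact hno _ (mul_mem (mul_mem (mul_mem m1 hv) hc) hb) h.1 h.2
  by_contra hcon
  push Not at hcon
  obtain ⟨v, hv, hv0⟩ := SetLike.not_le_iff_exists.mp hcon.1
  obtain ⟨w, hw, hw1⟩ := SetLike.not_le_iff_exists.mp hcon.2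
  have hv' : inFour 1 v := (key v hv).resolve_left hv0
  have hw' : inFour 0 w := (key w hw).resolve_right hw1
  have hvn : v ≠ 1 := fun e => hv0 (e ▸ (fourSub 0).one_mem)
  have hwn : w ≠ 1 := fun e => hw1 (e ▸ (fourSub 1).one_mem)
  have := four_cross w v hw' hv' hwn hvn
  rcases key _ (mul_mem hw hv) with h | h
  · exact this.1 h
  · exact this.2 h

/-- The two maximal subgroups prime to three normalized by an element of order three. -/
theorem exists_fours (y : alternatingGroup (Fin 5)) (hy : y ^ 3 = 1) (hy1 : y ≠ 1) :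
    ∃ V : Fin 2 → Subgroup (alternatingGroup (Fin 5)),
      (∀ i, Nat.card (V i) = 4 ∧ y ∈ Subgroup.normalizer (V i : Set (alternatingGroup (Fin 5))) ∧
        ∀ v ∈ V i, v * v = 1) ∧ V 0 ≠ V 1 ∧
      ∀ E : Subgroup (alternatingGroup (Fin 5)), ¬ 3 ∣ Nat.card E →
        y ∈ Subgroup.normalizer (E : Set (alternatingGroup (Fin 5))) → E ≤ V 0 ∨ E ≤ V 1 := by
  obtain ⟨g, hg⟩ := exists_conj_a5c y hy hy1
  set φ : alternatingGroup (Fin 5) →* alternatingGroup (Fin 5) := (MulAut.conj g⁻¹).toMonoidHom with hφ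
  have hφinj : Function.Injective φ := (MulAut.conj g⁻¹).injective
  have hφy : φ a5c = y := by
    show g⁻¹ * a5c * g⁻¹⁻¹ = y
    rw [← hg]; group
  refine ⟨fun i => (fourSub i).map φ, fun i => ⟨?_, ?_, ?_⟩, ?_, fun E hE hn => ?_⟩
  · rw [Subgroup.card_map_of_injective hφinj, card_fourSub]
  · rw [← hφy]
    exact Subgroup.le_normalizer_map φ ⟨a5c, a5c_mem_normalizer i, rfl⟩
  · rintro _ ⟨v, hv, rfl⟩
    rw [← map_mul, hv.2, map_one]
  · intro e
    have e' : fourSub 0 = fourSub 1 := Subgroup.map_injective hφinj e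
    have h1 : inFour 0 ⟨swap 0 1 * swap 2 3, Equiv.Perm.mem_alternatingGroup.mpr (by decide)⟩ := by decide
    have h2 : inFour 1 ⟨swap 0 1 * swap 2 3, Equiv.Perm.mem_alternatingGroup.mpr (by decide)⟩ := (SetLike.ext_iff.mp e' _).mp h1
    revert h2
    decide
  · set ψ : alternatingGroup (Fin 5) →* alternatingGroup (Fin 5) := (MulAut.conj g).toMonoidHom
    have h1 : ψ y = a5c := hg
    have h2 : φ.comp ψ = MonoidHom.id _ := MonoidHom.ext fun v => by
      show g⁻¹ * (g * v * g⁻¹) * g⁻¹⁻¹ = v
      group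
    have h3 := le_fourSub (E := E.map ψ) (by
      rwa [Subgroup.card_map_of_injective (MulAut.conj g).injective]) (h1 ▸
        Subgroup.le_normalizer_map ψ ⟨y, hn, rfl⟩)
    rcases h3 with h | h
    · left
      have := Subgroup.map_mono (f := φ) h
      rwa [Subgroup.map_map, h2, Subgroup.map_id] at this
    · right
      have := Subgroup.map_mono (f := φ) h
      rwa [Subgroup.map_map, h2, Subgroup.map_id] at this

end Cfsg.Agent.Fus.SCThree
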