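import Mathlib
import Cfsg.Agent.Lib.Grp.SpectrumFour

/-!
Groups with a fixed-point-free automorphism of order three: class at most two, and the behaviour
of an inverting involutory automorphism.
-/

set_option autoImplicit false
set_option linter.style.haveILetI false

namespace Cfsg.Agent.Fus.SCThree

open scoped commutatorElement
open Subgroup

universe u

/-- A fixed-point-free automorphism with cube one. -/
structure IsFpfThree {S : Type u} [Group S] (α : S ≃* S) : Prop where
  cube : ∀ a, α (α (α a)) = a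
  fpf : ∀ a, α a = a → a = 1

namespace IsFpfThree

variable {S : Type u} [Group S] {α : S ≃* S}

theorem symm_eq (h : IsFpfThree α) (a : S) : α.symm a = α (α a) := by
  rw [MulEquiv.symm_apply_eq, h.cube]

theorem sq (h : IsFpfThree α) : IsFpfThree (α.trans α) where
  cube a := by simp only [MulEquiv.trans_apply, h.cube]
  fpf a ha := by
    simp only [MulEquiv.trans_apply] at ha
    refine h.fpf a ?_
    conv_lhs => rw [← ha]
    exact h.cube a

theorem surj [Finite S] (h : IsFpfThree α) : ∀ b : S, ∃ a, a⁻¹ * α a = b := by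
  refine Finite.injective_iff_surjective.mp fun a b hab => ?_
  have hab' : a⁻¹ * α a = b⁻¹ * α b := hab
  have h1 : α (b * a⁻¹) = b * a⁻¹ := by
    rw [map_mul, map_inv]
    calc α b * (α a)⁻¹ = b * (b⁻¹ * α b) * (α a)⁻¹ := by group
      _ = b * (a⁻¹ * α a) * (α a)⁻¹ := by rw [hab']
      _ = b * a⁻¹ := by group
  exact (mul_inv_eq_one.mp (h.fpf _ h1)).symm

theorem prod_eq_one [Finite S] (h : IsFpfThree α) (b : S) : b * α b * α (α b) = 1 := by
  obtain ⟨a, rfl⟩ := h.surj b
  simp only [map_mul, map_inv, h.cube]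
  group

theorem comm [Finite S] (h : IsFpfThree α) (b : S) : Commute b (α b) := by
  have h1 := h.prod_eq_one b
  have h2 := h.sq.prod_eq_one b
  simp only [MulEquiv.trans_apply, h.cube] at h2
  have e1 : b⁻¹ = α b * α (α b) := inv_eq_of_mul_eq_one_right (by rw [← mul_assoc]; exact h1)
  have e2 : b⁻¹ = α (α b) * α b := inv_eq_of_mul_eq_one_right (by rw [← mul_assoc]; exact h2)
  have hc : Commute (α (α b)) (α b) := e2.symm.trans e1
  have : Commute b⁻¹ (α b) := e1 ▸ (Commute.refl (α b)).mul_left hc
  simpa using this.inv_left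

theorem twist [Finite S] (h : IsFpfThree α) (g : S) :
    IsFpfThree (α.trans (MulAut.conj g)) := by
  obtain ⟨a, rfl⟩ := h.surj g
  have e : ∀ b, (α.trans (MulAut.conj (a⁻¹ * α a))) b = a⁻¹ * α (a * b * a⁻¹) * a := fun b => by
    show (a⁻¹ * α a) * α b * (a⁻¹ * α a)⁻¹ = _
    simp only [map_mul, map_inv]
    group
  constructor
  · intro b
    rw [e, e, e]
    have e1 : ∀ y, a * (a⁻¹ * y * a) * a⁻¹ = y := fun y => by group
    rw [e1, e1, h.cube]
    group
  · intro b hb
    rw [e] at hb
    have h1 : α (a * b * a⁻¹) = a * b * a⁻¹ := by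
      calc α (a * b * a⁻¹) = a * (a⁻¹ * α (a * b * a⁻¹) * a) * a⁻¹ := by group
        _ = a * b * a⁻¹ := by rw [hb]
    simpa [mul_inv_eq_one] using h.fpf _ h1

theorem engel [Finite S] (h : IsFpfThree α) (b g : S) : Commute b (g * b * g⁻¹) := by
  have h1 : Commute b (g * α b * g⁻¹) := (h.twist g).comm b
  have h2 : Commute b (g * α (α b) * g⁻¹) := (h.sq.twist g).comm b
  have e : g * b * g⁻¹ = ((g * α b * g⁻¹) * (g * α (α b) * g⁻¹))⁻¹ := by
    refine eq_inv_of_mul_eq_one_left ?_
    calc _ = g * (b * α b * α (α b)) * g⁻¹ := by group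
      _ = 1 := by rw [h.prod_eq_one]; group
  rw [e]
  exact (h1.mul_right h2).inv_right

theorem card_mod [Finite S] (h : IsFpfThree α) : Nat.card S % 3 = 1 := by
  classical
  have := Fintype.ofFinite S
  haveI := Fact.mk Nat.prime_three
  let σ : Equiv.Perm S := α.toEquiv
  have hσ : σ ^ 3 ^ 1 = 1 := Equiv.ext fun a => by
    simp only [pow_one, pow_succ, pow_zero, one_mul, Equiv.Perm.mul_apply, Equiv.Perm.one_apply]
    exact h.cube a
  have h1 := Equiv.Perm.card_compl_support_modEq hσ
  have h2 : σ.supportᶜ = {1} := by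
    ext a
    rw [Finset.mem_compl, Equiv.Perm.notMem_support, Finset.mem_singleton]
    exact ⟨h.fpf a, fun e => e ▸ map_one α⟩
  rw [h2, Finset.card_singleton] at h1
  rw [Nat.card_eq_fintype_card]
  exact h1.symm

theorem not_three [Finite S] (h : IsFpfThree α) (a : S) (ha : a ^ 3 = 1) : a = 1 := by
  by_contra h1
  haveI := Fact.mk Nat.prime_three
  have h2 : 3 ∣ Nat.card S := orderOf_eq_prime ha h1 ▸ orderOf_dvd_natCard a
  have := h.card_mod
  omega

theorem classTwo [Finite S] (h : IsFpfThree α) (a b c : S) : Commute ⁅a, b⁆ c := by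
  have hl := Grp.SpectrumFour.levi (G := S) h.engel h.not_three
  rw [Subgroup.commutator_eq_bot_iff_le_centralizer] at hl
  exact (Subgroup.mem_centralizer_iff.mp
    (hl (Subgroup.commutator_mem_commutator (Subgroup.mem_top a) (Subgroup.mem_top b))) c
      (Subgroup.mem_top c)).symm

theorem comm_mem_center [Finite S] (h : IsFpfThree α) (a b : S) : ⁅a, b⁆ ∈ Subgroup.center S :=
  Subgroup.mem_center_iff.mpr fun c => (h.classTwo a b c).symm.eq

theorem comm_mul_left [Finite S] (h : IsFpfThree α) (a b c : S) :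
    ⁅a * b, c⁆ = ⁅b, c⁆ * ⁅a, c⁆ := by
  have e : ⁅a * b, c⁆ = a * ⁅b, c⁆ * a⁻¹ * ⁅a, c⁆ := by simp only [commutatorElement_def]; group
  rw [e, (h.classTwo b c a).symm.eq, mul_inv_cancel_right]

theorem comm_mul_right [Finite S] (h : IsFpfThree α) (a b c : S) :
    ⁅a, b * c⁆ = ⁅a, b⁆ * ⁅a, c⁆ := by
  have e : ⁅a, b * c⁆ = ⁅a, b⁆ * (b * ⁅a, c⁆ * b⁻¹) := by simp only [commutatorElement_def]; group
  rw [e, (h.classTwo a c b).symm.eq, mul_inv_cancel_right]

theorem swap [Finite S] (h : IsFpfThree α) (a b : S) : ⁅a, α b⁆ = ⁅α a, b⁆ := by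
  have h1 : ⁅a * b, α (a * b)⁆ = 1 := commutatorElement_eq_one_iff_mul_comm.mpr (h.comm _).eq
  have ha : ⁅a, α a⁆ = 1 := commutatorElement_eq_one_iff_mul_comm.mpr (h.comm _).eq
  have hb : ⁅b, α b⁆ = 1 := commutatorElement_eq_one_iff_mul_comm.mpr (h.comm _).eq
  rw [map_mul, h.comm_mul_left, h.comm_mul_right, h.comm_mul_right, ha, hb, mul_one, one_mul] at h1
  rw [← commutatorElement_inv b (α a)]
  exact eq_inv_of_mul_eq_one_right h1

/-- An element centralizing a subgroup of index at most two is central. -/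
theorem central_of_index_two [Finite S] (h : IsFpfThree α) {c : S} {D : Subgroup S}
    (hD : Nat.card S ≤ 2 * Nat.card D) (hc : ∀ d ∈ D, Commute c d) : c ∈ Subgroup.center S := by
  by_contra hne
  obtain ⟨v, hv⟩ : ∃ v, v ∉ Subgroup.centralizer ({c} : Set S) := by
    by_contra hall
    push Not at hall
    exact hne (Subgroup.mem_center_iff.mpr fun g =>
      Subgroup.mem_centralizer_singleton_iff.mp (hall g))
  set C := Subgroup.centralizer ({c} : Set S) with hC
  have hDC : D ≤ C := fun d hd => Subgroup.mem_centralizer_singleton_iff.mpr (hc d hd).symm.eq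
  have hidx : C.index = 2 := by
    have h1 := C.card_mul_index
    have h2 : Nat.card D ≤ Nat.card C := Nat.le_of_dvd Nat.card_pos (Subgroup.card_dvd_of_le hDC)
    have h3 : C.index ≠ 1 := fun e => hv (by rw [Subgroup.index_eq_one.mp e]; exact Subgroup.mem_top v)
    have h4 : C.index ≠ 0 := Subgroup.index_ne_zero_of_finite
    have h5 : 0 < Nat.card C := Nat.card_pos
    have h6 : Nat.card C * C.index ≤ Nat.card C * 2 := by omega
    have := Nat.le_of_mul_le_mul_left h6 h5
    omega
  have hval : ∀ w : S, ⁅c, w⁆ = 1 ∨ ⁅c, w⁆ = ⁅c, v⁆ := by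
    intro w
    by_cases hw : w ∈ C
    · exact Or.inl (commutatorElement_eq_one_iff_mul_comm.mpr
        (Subgroup.mem_centralizer_singleton_iff.mp hw).symm)
    · refine Or.inr ?_
      have h1 : v⁻¹ * w ∈ C := by
        rw [Subgroup.mul_mem_iff_of_index_two hidx]
        exact iff_of_false (fun e => hv (inv_mem_iff.mp e)) hw
      have h2 : ⁅c, v⁻¹ * w⁆ = 1 := commutatorElement_eq_one_iff_mul_comm.mpr
        (Subgroup.mem_centralizer_singleton_iff.mp h1).symm
      calc ⁅c, w⁆ = ⁅c, v * (v⁻¹ * w)⁆ := by rw [mul_inv_cancel_left]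
        _ = ⁅c, v⁆ := by rw [h.comm_mul_right, h2, mul_one]
  have hne1 : ⁅c, v⁆ ≠ 1 := fun e => hv (Subgroup.mem_centralizer_singleton_iff.mpr
    (commutatorElement_eq_one_iff_mul_comm.mp e).symm)
  have hα : α ⁅c, v⁆ = ⁅c, α (α v)⁆ := by rw [map_commutatorElement, ← h.swap c (α v)]
  rcases hval (α (α v)) with e | e
  · exact hne1 (α.injective (by rw [hα, e, map_one]))
  · exact hne1 (h.fpf _ (hα.trans e))

/-- The automorphism induced on a quotient. -/
theorem quotient [Finite S] (h : IsFpfThree α) (N : Subgroup S) [N.Normal]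
    (hN : N.map α.toMonoidHom = N) :
    IsFpfThree (QuotientGroup.congr N N α hN) where
  cube q := by
    induction q using QuotientGroup.induction_on with | _ a => ?_
    exact congrArg QuotientGroup.mk (h.cube a)
  fpf := by
    set β := QuotientGroup.congr N N α hN
    have hsurj : Function.Surjective fun q : S ⧸ N => q⁻¹ * β q := fun q => by
      induction q using QuotientGroup.induction_on with | _ b => ?_
      obtain ⟨a, rfl⟩ := h.surj b
      exact ⟨(a : S ⧸ N), rfl⟩
    intro q hq
    have hinj := Finite.injective_iff_surjective.mpr hsurj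
    refine hinj ?_
    simp [hq]

theorem commutative_of_small [Finite S] (h : IsFpfThree α)
    (h4 : (Subgroup.center S).index ≤ 4) : IsMulCommutative S := by
  refine ⟨⟨fun a b => ?_⟩⟩
  suffices hall : ∀ u : S, u ∈ Subgroup.center S from (Subgroup.mem_center_iff.mp (hall b) a)
  intro u
  by_contra hu
  set Z := Subgroup.center S
  have hZ : Z.map α.toMonoidHom = Z := Subgroup.characteristic_iff_map_eq.mp inferInstance α
  have hq := h.quotient Z hZ
  set β := QuotientGroup.congr Z Z α hZ
  set q : S ⧸ Z := (u : S ⧸ Z) with hqd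
  have hq1 : q ≠ 1 := fun e => hu ((QuotientGroup.eq_one_iff u).mp e)
  let f : Fin 4 → S := ![1, u, α u, α (α u)]
  have hf : Function.Injective fun i => ((f i : S) : S ⧸ Z) := by
    have n1 : β q ≠ q := fun e => hq1 (hq.fpf q e)
    have n2 : β (β q) ≠ q := fun e => hq1 (hq.sq.fpf q e)
    have n3 : β (β q) ≠ β q := fun e => n1 (β.injective e)
    have m1 : β q ≠ 1 := fun e => hq1 (β.injective (e.trans (map_one β).symm))
    have m2 : β (β q) ≠ 1 := fun e => m1 (β.injective (e.trans (map_one β).symm))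
    have e0 : ((f 0 : S) : S ⧸ Z) = 1 := rfl
    have e1 : ((f 1 : S) : S ⧸ Z) = q := rfl
    have e2 : ((f 2 : S) : S ⧸ Z) = β q := rfl
    have e3 : ((f 3 : S) : S ⧸ Z) = β (β q) := rfl
    intro i j hij
    change ((f i : S) : S ⧸ Z) = ((f j : S) : S ⧸ Z) at hij
    fin_cases i <;> fin_cases j <;> first
      | rfl
      | (exfalso; simp only [Fin.zero_eta, Fin.mk_one, Fin.reduceFinMk, e0, e1, e2, e3] at hij
         first
          | exact hq1 hij | exact hq1 hij.symm | exact n1 hij | exact n1 hij.symm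
          | exact n2 hij | exact n2 hij.symm | exact n3 hij | exact n3 hij.symm
          | exact m1 hij | exact m1 hij.symm | exact m2 hij | exact m2 hij.symm)
  have hsurj : Function.Surjective fun i => ((f i : S) : S ⧸ Z) := by
    have := Fintype.ofFinite (S ⧸ Z)
    refine ((Fintype.bijective_iff_injective_and_card _).mpr ⟨hf, ?_⟩).2
    have h1 : 4 ≤ Fintype.card (S ⧸ Z) := by
      simpa using Fintype.card_le_of_injective _ hf
    have h2 : Fintype.card (S ⧸ Z) ≤ 4 := by
      rw [← Nat.card_eq_fintype_card]; exact h4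
    rw [Fintype.card_fin]; omega
  refine hu (Subgroup.mem_center_iff.mpr fun g => ?_)
  obtain ⟨i, hi⟩ := hsurj (g : S ⧸ Z)
  have hi' : (f i)⁻¹ * g ∈ Z := QuotientGroup.eq.mp hi
  have hcf : Commute u (f i) := by
    have c2 : Commute u (α (α u)) := by simpa using h.sq.comm u
    fin_cases i
    · exact Commute.one_right u
    · exact Commute.refl u
    · exact h.comm u
    · exact c2
  have hcz : Commute u ((f i)⁻¹ * g) := Subgroup.mem_center_iff.mp hi' u
  have h3 := hcf.mul_right hcz
  rw [mul_inv_cancel_left] at h3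
  exact h3.eq.symm

end IsFpfThree

/-- A fixed-point-free automorphism of cube one together with an inverting involutory automorphism. -/
structure IsInverted {S : Type u} [Group S] (α τ : S ≃* S) : Prop extends IsFpfThree α where
  invol : ∀ a, τ (τ a) = a
  inverts : ∀ a, τ (α (τ a)) = α (α a)

/-- The fixed points of an automorphism. -/
def fixedSub {S : Type u} [Group S] (φ : S ≃* S) : Subgroup S :=
  φ.toMonoidHom.eqLocus (MonoidHom.id S)

theorem mem_fixedSub {S : Type u} [Group S] {φ : S ≃* S} {a : S} : a ∈ fixedSub φ ↔ φ a = a :=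
  Iff.rfl

namespace IsInverted

variable {S : Type u} [Group S] {α τ : S ≃* S}

theorem inverts' (h : IsInverted α τ) (a : S) : τ (α a) = α (α (τ a)) := by
  have := h.inverts (τ a)
  rwa [h.invol] at this

theorem quotient [Finite S] (h : IsInverted α τ) (N : Subgroup S) [N.Normal]
    (hN : N.map α.toMonoidHom = N) (hN' : N.map τ.toMonoidHom = N) :
    IsInverted (QuotientGroup.congr N N α hN) (QuotientGroup.congr N N τ hN') where
  toIsFpfThree := h.toIsFpfThree.quotient N hN
  invol q := by
    induction q using QuotientGroup.induction_on with | _ a => ?_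
    exact congrArg QuotientGroup.mk (h.invol a)
  inverts q := by
    induction q using QuotientGroup.induction_on with | _ a => ?_
    exact congrArg QuotientGroup.mk (h.inverts a)

theorem card_fixed_sq [Finite S] (h : IsInverted α τ) [IsMulCommutative S] :
    Nat.card (fixedSub τ) * Nat.card (fixedSub τ) = Nat.card S := by
  set F := fixedSub τ
  let I : Subgroup S :=
    { carrier := {a | τ a = a⁻¹}
      one_mem' := by simp
      mul_mem' := fun {a b} ha hb => by
        show τ (a * b) = (a * b)⁻¹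
        rw [map_mul, show τ a = a⁻¹ from ha, show τ b = b⁻¹ from hb, mul_inv_rev, mul_comm']
      inv_mem' := fun {a} ha => by
        show τ a⁻¹ = a⁻¹⁻¹
        rw [map_inv, show τ a = a⁻¹ from ha] }
  have hsq : ∀ K : Subgroup S, (∀ g, g ∈ K → α g ∈ K → α g = g) →
      Nat.card K * Nat.card K ≤ Nat.card S := by
    intro K hK
    rw [← Nat.card_prod]
    refine Nat.card_le_card_of_injective (fun p : K × K => (p.1 : S) * α (p.2 : S)) ?_
    rintro ⟨a, b⟩ ⟨a', b'⟩ hp
    have hp' : (a : S) * α (b : S) = (a' : S) * α (b' : S) := hp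
    have e : (a' : S)⁻¹ * a = α ((b' : S) * (b : S)⁻¹) := by
      rw [map_mul, map_inv]
      calc (a' : S)⁻¹ * a = (a' : S)⁻¹ * ((a : S) * α (b : S)) * (α (b : S))⁻¹ := by group
        _ = α (b' : S) * (α (b : S))⁻¹ := by rw [hp']; group
    have h2 := h.fpf _ (hK _ (mul_mem b'.2 (inv_mem b.2)) (e ▸ mul_mem (inv_mem a'.2) a.2))
    rw [h2, map_one] at e
    exact Prod.ext (Subtype.ext (inv_mul_eq_one.mp e).symm) (Subtype.ext (mul_inv_eq_one.mp h2).symm)
  have hF := hsq F fun g hg hαg => by
    have h1 := h.inverts' g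
    rw [mem_fixedSub.mp hg, mem_fixedSub.mp hαg] at h1
    exact (α.injective h1).symm
  have hI := hsq I fun g hg hαg => by
    have h1 := h.inverts' g
    rw [show τ g = g⁻¹ from hg, show τ (α g) = (α g)⁻¹ from hαg, map_inv, map_inv, inv_inj] at h1
    exact (α.injective h1).symm
  let φ : S →* S := MonoidHom.mk' (fun a => a * τ a) fun a b => by
    rw [map_mul, mul_assoc, mul_assoc, ← mul_assoc b, mul_comm' b (τ a), mul_assoc]
  have hr : φ.range ≤ F := by
    rintro _ ⟨a, rfl⟩
    show τ (a * τ a) = a * τ a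
    rw [map_mul, h.invol, mul_comm']
  have hk : φ.ker ≤ I := fun a ha => eq_inv_of_mul_eq_one_right (show a * τ a = 1 from ha)
  have h3 : Nat.card S ≤ Nat.card I * Nat.card F := by
    rw [← φ.ker.card_mul_index, Subgroup.index_ker]
    exact Nat.mul_le_mul (Nat.le_of_dvd Nat.card_pos (Subgroup.card_dvd_of_le hk))
      (Nat.le_of_dvd Nat.card_pos (Subgroup.card_dvd_of_le hr))
  have hpos : 0 < Nat.card S := Nat.card_pos
  nlinarith [Nat.mul_le_mul hI (le_refl (Nat.card F * Nat.card F)), Nat.mul_le_mul h3 h3]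

variable [Finite S]

theorem center_map (φ : S ≃* S) :
    (Subgroup.center S).map φ.toMonoidHom = Subgroup.center S :=
  Subgroup.characteristic_iff_map_eq.mp inferInstance φ

theorem center_fixed (h : IsInverted α τ)
    (hfix : ∀ z ∈ Subgroup.center S, τ z = z) : Subgroup.center S = ⊥ := by
  have hmemα : ∀ z ∈ Subgroup.center S, α z ∈ Subgroup.center S := fun z hz =>
    center_map α ▸ ⟨z, hz, rfl⟩
  refine (Subgroup.eq_bot_iff_forall _).mpr fun z hz => ?_
  have h1 := h.inverts' z
  rw [hfix z hz, hfix _ (hmemα z hz)] at h1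
  exact h.fpf z (α.injective h1).symm

/-- A twisted involution moving a subgroup of index at most two only centrally forces commutativity. -/
theorem commutative_of_twin (h : IsInverted α τ) (u : S) {D : Subgroup S}
    (hD : Nat.card S ≤ 2 * Nat.card D)
    (hd : ∀ d ∈ D, d⁻¹ * τ (u * d * u⁻¹) ∈ Subgroup.center S) : IsMulCommutative S := by
  refine h.toIsFpfThree.commutative_of_small ?_
  set Z := Subgroup.center S with hZdef
  have hq := h.quotient Z (center_map α) (center_map τ)
  set τb := QuotientGroup.congr Z Z τ (center_map τ)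
  haveI : IsMulCommutative (S ⧸ Z) := ⟨⟨fun p q => by
    induction p using QuotientGroup.induction_on with | _ a => ?_
    induction q using QuotientGroup.induction_on with | _ b => ?_
    rw [← commutatorElement_eq_one_iff_mul_comm]
    refine Eq.trans (map_commutatorElement (QuotientGroup.mk' Z) a b).symm ?_
    exact (QuotientGroup.eq_one_iff _).mpr (h.toIsFpfThree.comm_mem_center a b)⟩⟩
  have hDF : D.map (QuotientGroup.mk' Z) ≤ fixedSub τb := by
    rintro _ ⟨d, hdD, rfl⟩
    have h1 : ((τ (u * d * u⁻¹) : S) : S ⧸ Z) = (d : S ⧸ Z) :=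
      (QuotientGroup.eq.mpr (hd d hdD)).symm
    have h2 : ((u * d * u⁻¹ : S) : S ⧸ Z) = (d : S ⧸ Z) := by
      simp only [QuotientGroup.mk_mul, QuotientGroup.mk_inv]
      rw [mul_comm' ((u : S) : S ⧸ Z), mul_inv_cancel_right]
    show τb (d : S ⧸ Z) = (d : S ⧸ Z)
    rw [← h2]
    exact h1.trans h2.symm
  have hker : Nat.card D ≤ Nat.card Z * Nat.card (D.map (QuotientGroup.mk' Z)) := by
    set ψ := (QuotientGroup.mk' Z).subgroupMap D
    rw [← ψ.ker.card_mul_index, Subgroup.index_ker]
    refine Nat.mul_le_mul ?_ (Nat.card_le_card_of_injective (Subtype.val) Subtype.val_injective)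
    exact Nat.card_le_card_of_injective (fun d : ψ.ker => (⟨((d : D) : S),
      (QuotientGroup.eq_one_iff _).mp (congrArg Subtype.val (MonoidHom.mem_ker.mp d.2))⟩ : Z))
      fun a b e => Subtype.ext (Subtype.ext (congrArg (fun z : Z => (z : S)) e))
  have hle : Nat.card (D.map (QuotientGroup.mk' Z)) ≤ Nat.card (fixedSub τb) :=
    Nat.le_of_dvd Nat.card_pos (Subgroup.card_dvd_of_le hDF)
  have hsq := hq.card_fixed_sq
  have hS : Nat.card S = Z.index * Nat.card Z := by rw [mul_comm, Subgroup.card_mul_index]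
  have hZ0 : 0 < Nat.card Z := Nat.card_pos
  have hP : Z.index ≤ 2 * Nat.card (fixedSub τb) := by
    refine Nat.le_of_mul_le_mul_right ?_ hZ0
    rw [← hS]
    calc Nat.card S ≤ 2 * (Nat.card Z * Nat.card (fixedSub τb)) :=
          hD.trans (Nat.mul_le_mul_left 2 (hker.trans (Nat.mul_le_mul_left _ hle)))
      _ = _ := by ring
  change Nat.card (fixedSub τb) * Nat.card (fixedSub τb) = Z.index at hsq
  have hF2 : Nat.card (fixedSub τb) ≤ 2 := by nlinarith
  nlinarith

/-- In the commutative case such a subgroup is fixed only in order at most four. -/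
theorem card_le_of_twin (h : IsInverted α τ) [IsMulCommutative S] {D : Subgroup S}
    (hD : Nat.card S ≤ 2 * Nat.card D) (hd : ∀ d ∈ D, τ d = d) : Nat.card S ≤ 4 := by
  have hle : Nat.card D ≤ Nat.card (fixedSub τ) :=
    Nat.le_of_dvd Nat.card_pos (Subgroup.card_dvd_of_le fun d hdD => hd d hdD)
  have hsq := h.card_fixed_sq
  nlinarith

/-- A twisted involution with at most two fixed points. -/
theorem card_le_of_few_fixed (h : IsInverted α τ) (u : S)
    (hfew : Nat.card (fixedSub ((MulAut.conj u).trans τ)) ≤ 2) : Nat.card S ≤ 4 := by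
  set Z := Subgroup.center S with hZdef
  set σ := (MulAut.conj u).trans τ with hσ
  have hq := h.quotient Z (center_map α) (center_map τ)
  set τb := QuotientGroup.congr Z Z τ (center_map τ)
  haveI : IsMulCommutative (S ⧸ Z) := ⟨⟨fun p q => by
    induction p using QuotientGroup.induction_on with | _ a => ?_
    induction q using QuotientGroup.induction_on with | _ b => ?_
    rw [← commutatorElement_eq_one_iff_mul_comm]
    refine Eq.trans (map_commutatorElement (QuotientGroup.mk' Z) a b).symm ?_
    exact (QuotientGroup.eq_one_iff _).mpr (h.toIsFpfThree.comm_mem_center a b)⟩⟩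
  have hmk : ∀ a : S, ((σ a : S) : S ⧸ Z) = τb (a : S ⧸ Z) := fun a => by
    have h2 : ((u * a * u⁻¹ : S) : S ⧸ Z) = (a : S ⧸ Z) := by
      simp only [QuotientGroup.mk_mul, QuotientGroup.mk_inv]
      rw [mul_comm' ((u : S) : S ⧸ Z), mul_inv_cancel_right]
    rw [← h2]
    rfl
  let C : Subgroup S := (fixedSub τb).comap (QuotientGroup.mk' Z)
  have hC : ∀ a ∈ C, a⁻¹ * σ a ∈ Z := fun a ha => by
    rw [← QuotientGroup.eq, hmk]
    exact (show τb (a : S ⧸ Z) = (a : S ⧸ Z) from ha).symm
  let δ : C →* Z := MonoidHom.mk' (fun a => ⟨(a : S)⁻¹ * σ (a : S), hC _ a.2⟩) fun a b => by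
    refine Subtype.ext ?_
    show ((a : S) * b)⁻¹ * σ ((a : S) * b) = ((a : S)⁻¹ * σ (a : S)) * ((b : S)⁻¹ * σ (b : S))
    rw [map_mul, show ((a : S) * b)⁻¹ * (σ (a : S) * σ (b : S)) =
      (b : S)⁻¹ * ((a : S)⁻¹ * σ (a : S)) * σ (b : S) by group,
      Subgroup.mem_center_iff.mp (hC _ a.2) (b : S)⁻¹, mul_assoc]
  have hCle : Nat.card C ≤ 2 * Nat.card Z := by
    rw [← δ.ker.card_mul_index, Subgroup.index_ker]
    refine Nat.mul_le_mul ?_ (Nat.card_le_card_of_injective Subtype.val Subtype.val_injective)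
    refine le_trans (Nat.card_le_card_of_injective (fun a : δ.ker => (⟨((a : C) : S),
      mem_fixedSub.mpr (inv_mul_eq_one.mp (congrArg Subtype.val (MonoidHom.mem_ker.mp a.2))).symm⟩ :
        fixedSub σ)) fun a b e => Subtype.ext (Subtype.ext (congrArg (fun z : fixedSub σ => (z : S)) e))) hfew
  have hCcard : Nat.card C = Nat.card Z * Nat.card (fixedSub τb) := by
    have h1 : C.index = (fixedSub τb).index :=
      Subgroup.index_comap_of_surjective _ (QuotientGroup.mk'_surjective Z)
    have h2 := C.card_mul_index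
    have h3 := (fixedSub τb).card_mul_index
    have h4 : (fixedSub τb).index ≠ 0 := Subgroup.index_ne_zero_of_finite
    have h5 : Nat.card Z * Z.index = Nat.card S := Z.card_mul_index
    change Nat.card (fixedSub τb) * (fixedSub τb).index = Z.index at h3
    refine Nat.eq_of_mul_eq_mul_right (Nat.pos_of_ne_zero h4) ?_
    rw [mul_assoc, h3, h5, ← h1, h2]
  have hF2 : Nat.card (fixedSub τb) ≤ 2 :=
    Nat.le_of_mul_le_mul_left (by rw [← hCcard, mul_comm _ 2]; exact hCle) (Nat.card_pos (α := Z))
  have hsq := hq.card_fixed_sq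
  change Nat.card (fixedSub τb) * Nat.card (fixedSub τb) = Z.index at hsq
  haveI := h.toIsFpfThree.commutative_of_small (by nlinarith)
  have e : fixedSub σ = fixedSub τ := by
    ext a
    rw [mem_fixedSub, mem_fixedSub, hσ, MulEquiv.trans_apply, MulAut.conj_apply, mul_comm' u a,
      mul_inv_cancel_right]
  have := h.card_fixed_sq
  rw [e] at hfew
  nlinarith

end IsInverted

end Cfsg.Agent.Fus.SCThree
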