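import Mathlib
import Cfsg.Agent.Lib.Grp.FpfPrime
import Cfsg.Agent.Lib.Char.SelfCentPrime
import Cfsg.Agent.Lib.Grp.SpectrumFour
import Cfsg.Agent.Lib.Classical.SLNormal
import Cfsg.Agent.Lib.Fus.SelfCentThree.Engel
import Cfsg.Agent.Lib.Fus.SelfCentThree.Alt5

/-!
A self-centralizing element of order three: invariant subgroups of order prime to three, quotients,
and the two possible shapes of a local subgroup.
-/

set_option autoImplicit false
set_option linter.style.haveILetI false
set_option linter.unusedSectionVars false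
set_option linter.unusedVariables false

namespace Cfsg.Agent.Fus.SCThree

open Subgroup
open scoped commutatorElement

universe u

/-- The conclusion of the theorem on self-centralizing subgroups of order three. -/
def Concl (G : Type u) [Group G] : Prop :=
  (∃ (N : Subgroup G) (hN : N.Normal), Group.IsNilpotent N ∧ (Nat.card N).Coprime 3 ∧
      (Nat.card (G ⧸ N) = 3 ∨ Nonempty (G ⧸ N ≃* Equiv.Perm (Fin 3)))) ∨
    (∃ (N : Subgroup G) (hN : N.Normal), IsMulCommutative N ∧ (∀ n ∈ N, n ^ 2 = 1) ∧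
      Nonempty (G ⧸ N ≃* alternatingGroup (Fin 5))) ∨
    Nonempty (G ≃* Matrix.ProjectiveSpecialLinearGroup (Fin 2) (ZMod 7))

variable {G : Type u} [Group G] [Finite G] {x : G}

/-- A subgroup of order prime to three normalized by `x`. -/
structure IsInv (x : G) (D : Subgroup G) : Prop where
  norm : x ∈ normalizer (D : Set G)
  not_dvd : ¬ 3 ∣ Nat.card D

theorem pow_three_eq (h : Char.SCP.Hyp 3 x) : x ^ 3 = 1 := h.ord ▸ pow_orderOf_eq_one x

theorem x_ne_one (h : Char.SCP.Hyp 3 x) : x ≠ 1 := fun e => by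
  have := h.ord
  rw [e, orderOf_one] at this
  omega

theorem eq_of_mem_zpowers (h : Char.SCP.Hyp 3 x) {g : G} (hg : g ∈ zpowers x) :
    g = 1 ∨ g = x ∨ g = x * x := by
  classical
  rw [(isOfFinOrder_of_finite x).mem_zpowers_iff_mem_range_orderOf, h.ord] at hg
  simp only [Finset.mem_image, Finset.mem_range] at hg
  obtain ⟨k, hk, rfl⟩ := hg
  interval_cases k
  · exact Or.inl (pow_zero x)
  · exact Or.inr (Or.inl (pow_one x))
  · exact Or.inr (Or.inr (pow_two x))

theorem commute_eq_one (h : Char.SCP.Hyp 3 x) {g : G} (hc : Commute g x)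
    (hg : ¬ 3 ∣ orderOf g) : g = 1 := by
  haveI := Fact.mk Nat.prime_three
  have h1 : g ∈ zpowers x := Char.SCP.mem_P_of_comm h hc.eq
  have h2 : orderOf g ∣ 3 := by
    have := orderOf_dvd_natCard (⟨g, h1⟩ : zpowers x)
    rwa [Nat.card_zpowers, h.ord, Subgroup.orderOf_mk] at this
  rcases (Nat.dvd_prime Nat.prime_three).mp h2 with e | e
  · exact orderOf_eq_one_iff.mp e
  · exact absurd (e ▸ dvd_rfl) hg

namespace IsInv

variable {D : Subgroup G}

theorem inf_centralizer (hD : IsInv x D) (h : Char.SCP.Hyp 3 x) :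
    D ⊓ centralizer {x} = ⊥ :=
  (Subgroup.eq_bot_iff_forall _).mpr fun g hg =>
    commute_eq_one h (Subgroup.mem_centralizer_singleton_iff.mp hg.2)
      fun e => hD.not_dvd (e.trans (Subgroup.orderOf_dvd_natCard D hg.1))

theorem nilpotent (hD : IsInv x D) (h : Char.SCP.Hyp 3 x) : Group.IsNilpotent D :=
  haveI := Fact.mk Nat.prime_three
  Grp.isNilpotent_of_fpf (pow_three_eq h) hD.norm (hD.inf_centralizer h)

/-- Conjugation by `x`. -/
def aut (hD : IsInv x D) : D ≃* D := D.normalizerMonoidHom ⟨x, hD.norm⟩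

theorem aut_coe (hD : IsInv x D) (a : D) : ((hD.aut a : D) : G) = x * a * x⁻¹ := rfl

theorem isFpf (hD : IsInv x D) (h : Char.SCP.Hyp 3 x) : IsFpfThree hD.aut where
  cube a := Subtype.ext (by
    rw [aut_coe, aut_coe, aut_coe,
      show x * (x * (x * (a : G) * x⁻¹) * x⁻¹) * x⁻¹ = x ^ 3 * a * (x ^ 3)⁻¹ by
        simp only [pow_succ, pow_zero]; group,
      pow_three_eq h]
    group)
  fpf a ha := by
    have h1 : x * (a : G) * x⁻¹ = a := congrArg Subtype.val ha
    exact Subtype.ext (commute_eq_one h (mul_inv_eq_iff_eq_mul.mp h1).symm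
      fun e => hD.not_dvd (e.trans (Subgroup.orderOf_dvd_natCard D a.2)))

theorem card_mod (hD : IsInv x D) (h : Char.SCP.Hyp 3 x) : Nat.card D % 3 = 1 :=
  (hD.isFpf h).card_mod

theorem classTwo (hD : IsInv x D) (h : Char.SCP.Hyp 3 x) {a b c : G} (ha : a ∈ D) (hb : b ∈ D)
    (hc : c ∈ D) : Commute ⁅a, b⁆ c :=
  congrArg Subtype.val ((hD.isFpf h).classTwo ⟨a, ha⟩ ⟨b, hb⟩ ⟨c, hc⟩).eq

theorem of_le (hD : IsInv x D) {E : Subgroup G} (hE : E ≤ D) (hn : x ∈ normalizer (E : Set G)) :
    IsInv x E :=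
  ⟨hn, fun e => hD.not_dvd (e.trans (Subgroup.card_dvd_of_le hE))⟩

theorem map {H : Type u} [Group H] [Finite H] (hD : IsInv x D) (f : G →* H) :
    IsInv (f x) (D.map f) :=
  ⟨Subgroup.le_normalizer_map f ⟨x, hD.norm, rfl⟩, fun e =>
    hD.not_dvd (e.trans (Subgroup.card_map_dvd D f))⟩

theorem subgroupOf (hD : IsInv x D) {H : Subgroup G} (hxH : x ∈ H) (hDH : D ≤ H) :
    IsInv (⟨x, hxH⟩ : H) (D.subgroupOf H) :=
  ⟨Subgroup.mem_normalizer_iff.mpr fun a => Subgroup.mem_normalizer_iff.mp hD.norm (a : G), by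
    rw [Nat.card_congr (Subgroup.subgroupOfEquivOfLe hDH).toEquiv]; exact hD.not_dvd⟩

end IsInv

theorem hyp_subgroup (h : Char.SCP.Hyp 3 x) {H : Subgroup G} (hx : x ∈ H) :
    Char.SCP.Hyp 3 (⟨x, hx⟩ : H) := by
  refine ⟨(Subgroup.orderOf_mk x hx).trans h.ord, le_antisymm (fun g hg => ?_) ?_⟩
  · have hc := congrArg Subtype.val (Subgroup.mem_centralizer_singleton_iff.mp hg)
    obtain ⟨i, hi⟩ := Char.SCP.mem_P_of_comm h (g := (g : G)) hc
    exact ⟨i, Subtype.ext (by simpa using hi)⟩
  · rw [zpowers_le]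
    exact Subgroup.mem_centralizer_singleton_iff.mpr rfl

theorem hyp_quotient (h : Char.SCP.Hyp 3 x) (N : Subgroup G) [hN : N.Normal]
    (h3 : ¬ 3 ∣ Nat.card N) : Char.SCP.Hyp 3 (QuotientGroup.mk' N x) := by
  haveI := Fact.mk Nat.prime_three
  have hxN : x ∉ N := fun e => h3 (h.ord ▸ Subgroup.orderOf_dvd_natCard N e)
  refine ⟨orderOf_eq_prime (by rw [← map_pow, pow_three_eq h, map_one])
    (fun e => hxN ((QuotientGroup.eq_one_iff x).mp e)), le_antisymm (fun q hq => ?_) ?_⟩
  · obtain ⟨y, rfl⟩ := QuotientGroup.mk'_surjective N q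
    rw [Subgroup.mem_centralizer_singleton_iff, ← map_mul, ← map_mul] at hq
    have hi : IsInv x N := ⟨Subgroup.le_normalizer_of_normal (Subgroup.mem_top x), h3⟩
    have hm : y⁻¹ * x * y * x⁻¹ ∈ N := by
      have h1 : (y * x)⁻¹ * (x * y) ∈ N := QuotientGroup.eq.mp hq
      have h2 := hN.conj_mem _ h1 x
      rwa [show x * ((y * x)⁻¹ * (x * y)) * x⁻¹ = y⁻¹ * x * y * x⁻¹ by group] at h2
    obtain ⟨a, ha⟩ := (hi.isFpf h).surj ⟨_, hm⟩
    have ha' : (a : G)⁻¹ * (x * a * x⁻¹) = y⁻¹ * x * y * x⁻¹ := congrArg Subtype.val ha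
    have hc : Commute (y * (a : G)⁻¹) x := by
      show y * (a : G)⁻¹ * x = x * (y * (a : G)⁻¹)
      calc y * (a : G)⁻¹ * x = y * ((a : G)⁻¹ * (x * a * x⁻¹)) * x * (a : G)⁻¹ := by group
        _ = _ := by rw [ha']; group
    obtain ⟨i, hi'⟩ := Char.SCP.mem_P_of_comm h hc.eq
    refine ⟨i, ?_⟩
    show (QuotientGroup.mk' N x) ^ i = QuotientGroup.mk' N y
    rw [← map_zpow, show x ^ i = y * (a : G)⁻¹ from hi', map_mul]
    rw [show QuotientGroup.mk' N (a : G)⁻¹ = 1 from (QuotientGroup.eq_one_iff _).mpr (inv_mem a.2),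
      mul_one]
  · rw [zpowers_le]
    exact Subgroup.mem_centralizer_singleton_iff.mpr rfl

theorem exists_hyp {X : Subgroup G} (hX : Nat.card X = 3) (hC : centralizer (X : Set G) = X) :
    ∃ x, Char.SCP.Hyp 3 x ∧ zpowers x = X := by
  haveI := Fact.mk Nat.prime_three
  obtain ⟨⟨x, hx⟩, ho⟩ := exists_prime_orderOf_dvd_card' (G := X) 3 hX.symm.dvd
  rw [Subgroup.orderOf_mk] at ho
  have e : zpowers x = X := Subgroup.eq_of_le_of_card_ge (zpowers_le.mpr hx) (by
    rw [Nat.card_zpowers, ho, hX])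
  exact ⟨x, ⟨ho, by rw [← centralizer_closure, ← zpowers_eq_closure, e, hC]⟩, e⟩

/-- A local subgroup with a unique maximal invariant subgroup. -/
structure TypeOne (x : G) (H O : Subgroup G) : Prop where
  le : O ≤ H
  inv : IsInv x O
  norm : H ≤ normalizer (O : Set G)
  uniq : ∀ E, IsInv x E → E ≤ H → E ≤ O
  card : Nat.card H = 3 * Nat.card O ∨ Nat.card H = 6 * Nat.card O

/-- A local subgroup of shape elementary-by-`A₅`. -/
structure TypeTwo (x : G) (H O : Subgroup G) (W : Fin 2 → Subgroup G) : Prop where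
  le : O ≤ H
  inv : IsInv x O
  norm : H ≤ normalizer (O : Set G)
  comm : IsMulCommutative O
  sq : ∀ a ∈ O, a * a = 1
  card : Nat.card H = 60 * Nat.card O
  part : ∀ i, IsInv x (W i) ∧ W i ≤ H ∧ O ≤ W i ∧ Nat.card (W i) = 4 * Nat.card O
  ne : W 0 ≠ W 1
  cover : ∀ E, IsInv x E → E ≤ H → E ≤ W 0 ∨ E ≤ W 1
  normal_le : ∀ E, IsInv x E → E ≤ H → H ≤ normalizer (E : Set G) → E ≤ O
  cent : O ≠ ⊥ → H ⊓ centralizer (O : Set G) ≤ O

theorem card_subgroupOf_quot {H : Subgroup G} (N : Subgroup H) :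
    Nat.card H = Nat.card (H ⧸ N) * Nat.card (N.map H.subtype) := by
  rw [Subgroup.card_map_of_injective H.subtype_injective]
  exact Subgroup.card_eq_card_quotient_mul_card_subgroup N

theorem le_normalizer_map_subtype {H : Subgroup G} (N : Subgroup H) [N.Normal] :
    H ≤ normalizer (N.map H.subtype : Set G) := fun g hg =>
  Subgroup.le_normalizer_map H.subtype
    ⟨⟨g, hg⟩, Subgroup.le_normalizer_of_normal (Subgroup.mem_top _), rfl⟩

/-- The trichotomy read inside the ambient group. -/
theorem local_type (h : Char.SCP.Hyp 3 x) {H : Subgroup G} (hxH : x ∈ H) (hc : Concl H)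
    {D : Subgroup G} (hD : IsInv x D) (hD1 : D ≠ ⊥) (hDH : D ≤ H)
    (hHD : H ≤ normalizer (D : Set G)) :
    (∃ O, TypeOne x H O) ∨ ∃ O W, TypeTwo x H O W := by
  set xH : H := ⟨x, hxH⟩
  have hh := hyp_subgroup h hxH
  rcases hc with ⟨N, hN, -, hco, hq⟩ | ⟨N, hN, hcomm, hsq, ⟨φ⟩⟩ | hφ
  · left
    have h3 : ¬ 3 ∣ Nat.card N := fun e => by
      have := Nat.dvd_gcd e (dvd_refl 3)
      rw [hco.gcd_eq_one] at this
      omega
    have hk : Nat.card (H ⧸ N) = 3 ∨ Nat.card (H ⧸ N) = 6 := hq.imp id fun ⟨ψ⟩ => by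
      rw [Nat.card_congr ψ.toEquiv, Nat.card_perm, Nat.card_eq_fintype_card, Fintype.card_fin]
      rfl
    refine ⟨N.map H.subtype, Subgroup.map_subtype_le N,
      ⟨Subgroup.le_normalizer_map H.subtype
        ⟨xH, Subgroup.le_normalizer_of_normal (Subgroup.mem_top _), rfl⟩, by
        rwa [Subgroup.card_map_of_injective H.subtype_injective]⟩,
      le_normalizer_map_subtype N, fun E hE hEH => ?_, ?_⟩
    · have hE' : IsInv xH (E.subgroupOf H) := hE.subgroupOf hxH hEH
      have hm := hE'.map (QuotientGroup.mk' N)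
      have h1 := hm.card_mod (hyp_quotient hh N h3)
      have h2 : Nat.card ((E.subgroupOf H).map (QuotientGroup.mk' N)) ∣ 6 := by
        refine (Subgroup.card_subgroup_dvd_card _).trans ?_
        rcases hk with e | e <;> rw [e]
        · norm_num
      have h4 : Nat.card ((E.subgroupOf H).map (QuotientGroup.mk' N)) = 1 := by
        set k := Nat.card ((E.subgroupOf H).map (QuotientGroup.mk' N))
        have : k ≤ 6 := Nat.le_of_dvd (by norm_num) h2
        interval_cases k <;> omega
      rw [Subgroup.card_eq_one, Subgroup.map_eq_bot_iff, QuotientGroup.ker_mk'] at h4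
      rw [← Subgroup.map_subgroupOf_eq_of_le hEH]
      exact Subgroup.map_mono h4
    · rw [card_subgroupOf_quot N]
      rcases hk with e | e <;> rw [e]
      · exact Or.inl rfl
      · exact Or.inr rfl
  · right
    set O := N.map H.subtype
    have hN3 : ¬ 3 ∣ Nat.card N := by
      intro e
      haveI := Fact.mk Nat.prime_three
      obtain ⟨n, hn⟩ := exists_prime_orderOf_dvd_card' (G := N) 3 e
      have h1 : orderOf n ∣ 2 := orderOf_dvd_of_pow_eq_one (Subtype.ext (hsq n n.2))
      rw [hn] at h1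
      omega
    have hhq := hyp_quotient hh N hN3
    set π : H →* alternatingGroup (Fin 5) := φ.toMonoidHom.comp (QuotientGroup.mk' N) with hπ
    have hπs : Function.Surjective π := φ.surjective.comp (QuotientGroup.mk'_surjective N)
    have hker : π.ker = N := by
      ext a
      rw [MonoidHom.mem_ker, hπ, MonoidHom.comp_apply, MulEquiv.toMonoidHom_eq_coe, MonoidHom.coe_coe,
        map_eq_one_iff φ φ.injective]
      exact QuotientGroup.eq_one_iff a
    have hy3 : π xH ^ 3 = 1 := by rw [← map_pow, pow_three_eq hh, map_one]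
    have hy1 : π xH ≠ 1 := fun e => x_ne_one hhq (φ.injective (e.trans (map_one φ).symm))
    obtain ⟨V, hV, hVne, hVcov⟩ := exists_fours (π xH) hy3 hy1
    have hcard : ∀ K : Subgroup (alternatingGroup (Fin 5)),
        Nat.card ((K.comap π).map H.subtype) = Nat.card K * Nat.card O := by
      intro K
      rw [Subgroup.card_map_of_injective H.subtype_injective,
        Subgroup.card_map_of_injective H.subtype_injective]
      have h1 := (K.comap π).card_mul_index
      rw [Subgroup.index_comap_of_surjective K hπs] at h1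
      have h2 := K.card_mul_index
      have h3 := N.card_mul_index
      rw [Subgroup.index_eq_card, Nat.card_congr φ.toEquiv] at h3
      have h5 : K.index ≠ 0 := Subgroup.index_ne_zero_of_finite
      refine Nat.eq_of_mul_eq_mul_right (Nat.pos_of_ne_zero h5) ?_
      rw [h1, ← h3, ← h2]; ring
    have hV3 : ∀ i, ¬ 3 ∣ Nat.card ((V i).comap π |>.map H.subtype) := by
      intro i
      rw [hcard, (hV i).1]
      intro e
      rcases Nat.prime_three.dvd_mul.mp e with e' | e'
      · norm_num at e'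
      · exact hN3 (by rwa [Subgroup.card_map_of_injective H.subtype_injective] at e')
    have himg : ∀ E : Subgroup G, IsInv x E → E ≤ H →
        ¬ 3 ∣ Nat.card ((E.subgroupOf H).map π) ∧
          π xH ∈ normalizer (((E.subgroupOf H).map π : Subgroup _) : Set (alternatingGroup (Fin 5))) :=
      fun E hE hEH => ⟨fun e => (hE.subgroupOf hxH hEH).not_dvd (e.trans (Subgroup.card_map_dvd _ π)),
        Subgroup.le_normalizer_map π ⟨xH, (hE.subgroupOf hxH hEH).norm, rfl⟩⟩
    have hback : ∀ (E : Subgroup G) (K : Subgroup (alternatingGroup (Fin 5))), E ≤ H →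
        (E.subgroupOf H).map π ≤ K → E ≤ (K.comap π).map H.subtype := fun E K hEH hle => by
      rw [← Subgroup.map_subgroupOf_eq_of_le hEH]
      exact Subgroup.map_mono (Subgroup.map_le_iff_le_comap.mp hle)
    refine ⟨O, fun i => ((V i).comap π).map H.subtype, Subgroup.map_subtype_le N,
      ⟨Subgroup.le_normalizer_map H.subtype
        ⟨xH, Subgroup.le_normalizer_of_normal (Subgroup.mem_top _), rfl⟩, by
        rwa [Subgroup.card_map_of_injective H.subtype_injective]⟩,
      le_normalizer_map_subtype N, inferInstance, ?_, ?_, fun i => ⟨⟨?_, hV3 i⟩,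
        Subgroup.map_subtype_le _, Subgroup.map_mono ?_, by rw [hcard, (hV i).1]⟩, ?_,
      fun E hE hEH => ?_, fun E hE hEH hHE => ?_, ?_⟩
    · rintro _ ⟨a, ha, rfl⟩
      rw [← map_mul, ← pow_two, hsq a ha, map_one]
    · rw [card_subgroupOf_quot N, Nat.card_congr φ.toEquiv, nat_card_alternatingGroup,
        Nat.card_eq_fintype_card, Fintype.card_fin]
      rfl
    · refine Subgroup.le_normalizer_map H.subtype ⟨xH, ?_, rfl⟩
      rw [SetLike.mem_coe, Subgroup.mem_normalizer_iff]
      intro a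
      rw [Subgroup.mem_comap, Subgroup.mem_comap, map_mul, map_mul, map_inv]
      exact Subgroup.mem_normalizer_iff.mp (hV i).2.1 _
    · rw [← hker]
      exact Subgroup.ker_le_comap _ _
    · intro e
      exact hVne (Subgroup.comap_injective hπs (Subgroup.map_injective H.subtype_injective e))
    · obtain ⟨h1, h2⟩ := himg E hE hEH
      exact (hVcov _ h1 h2).imp (hback E _ hEH) (hback E _ hEH)
    · obtain ⟨h1, -⟩ := himg E hE hEH
      haveI : (E.subgroupOf H).Normal := Subgroup.normal_subgroupOf_of_le_normalizer hHE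
      haveI := alternatingGroup.isSimpleGroup (α := Fin 5) (by simp)
      rcases IsSimpleGroup.eq_bot_or_eq_top_of_normal _
        (Subgroup.Normal.map (inferInstance : (E.subgroupOf H).Normal) π hπs) with e | e
      · rw [Subgroup.map_eq_bot_iff, hker] at e
        rw [← Subgroup.map_subgroupOf_eq_of_le hEH]
        exact Subgroup.map_mono e
      · exfalso
        rw [e, Subgroup.card_top, nat_card_alternatingGroup, Nat.card_eq_fintype_card,
          Fintype.card_fin] at h1
        exact h1 (by norm_num [Nat.factorial])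
    · intro hO
      haveI : (centralizer (N : Set H)).Normal := Subgroup.normal_centralizer
      haveI := alternatingGroup.isSimpleGroup (α := Fin 5) (by simp)
      rcases IsSimpleGroup.eq_bot_or_eq_top_of_normal _
        (Subgroup.Normal.map (inferInstance : (centralizer (N : Set H)).Normal) π hπs) with e | e
      · rw [Subgroup.map_eq_bot_iff, hker] at e
        rintro g ⟨hgH, hgc⟩
        refine ⟨⟨g, hgH⟩, e (Subgroup.mem_centralizer_iff.mpr fun a ha => Subtype.ext ?_), rfl⟩
        exact Subgroup.mem_centralizer_iff.mp hgc _ ⟨a, ha, rfl⟩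
      · exfalso
        obtain ⟨c, hc, hcx⟩ := e.ge (Subgroup.mem_top (π xH))
        have hn : c⁻¹ * xH ∈ N := by
          rw [← hker, MonoidHom.mem_ker, map_mul, map_inv, hcx, inv_mul_cancel]
        refine hO ((Subgroup.eq_bot_iff_forall _).mpr ?_)
        rintro _ ⟨a, ha, rfl⟩
        have h1 : Commute a (c⁻¹ * xH) :=
          congrArg Subtype.val (mul_comm' (⟨a, ha⟩ : N) ⟨_, hn⟩)
        have h2 : Commute a c := Subgroup.mem_centralizer_iff.mp hc a ha
        have h3 : Commute a xH := by simpa using h2.mul_right h1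
        have := commute_eq_one hh h3 fun e' =>
          hN3 (e'.trans (Subgroup.orderOf_dvd_natCard N ha))
        rw [this, map_one]
  · exfalso
    obtain ⟨φ⟩ := hφ
    haveI : IsSimpleGroup (Matrix.ProjectiveSpecialLinearGroup (Fin 2) (ZMod 7)) := by
      haveI := Fact.mk (show Nat.Prime 7 by norm_num)
      exact Classical.PSL_isSimple (F := ZMod 7) (n := 2) le_rfl fun _ => by
        rw [ZMod.card]; norm_num
    haveI : Nontrivial H := ⟨⟨xH, 1, x_ne_one hh⟩⟩
    haveI : IsSimpleGroup H := IsSimpleGroup.isSimpleGroup_of_surjective φ.symm.toMonoidHom φ.symm.surjective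
    haveI : (D.subgroupOf H).Normal := Subgroup.normal_subgroupOf_of_le_normalizer hHD
    rcases IsSimpleGroup.eq_bot_or_eq_top_of_normal (D.subgroupOf H) inferInstance with e | e
    · rw [Subgroup.subgroupOf_eq_bot, disjoint_iff, inf_eq_left.mpr hDH] at e
      exact hD1 e
    · rw [Subgroup.subgroupOf_eq_top] at e
      exact hD.not_dvd (h.ord ▸ Subgroup.orderOf_dvd_natCard D (e hxH))

end Cfsg.Agent.Fus.SCThree
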