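import Mathlib
import Cfsg.Agent.Lib.Fus.SelfCentThree.Basic

/-!
A simple group with a self-centralizing element of order three whose proper subgroups are known: the
maximal invariant subgroups of order prime to three and their Sylow subgroups.
-/

set_option autoImplicit false
set_option linter.style.haveILetI false
set_option linter.unusedSectionVars false

namespace Cfsg.Agent.Fus.SCThree

open Subgroup
open scoped commutatorElement

universe u

variable {G : Type u} [Group G] [Finite G] {x t : G}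

/-- The inductive setting. -/
structure Ctx (x t : G) : Prop where
  hyp : Char.SCP.Hyp 3 x
  simple : IsSimpleGroup G
  not_comm : ¬ IsMulCommutative G
  six : Nat.card (normalizer (zpowers x : Set G)) = 6
  invol : t * t = 1
  ne_one : t ≠ 1
  inverts : t * x * t⁻¹ = x⁻¹
  sub : ∀ H : Subgroup G, H ≠ ⊤ → x ∈ H → Concl H

/-- A maximal invariant subgroup of order prime to three. -/
def IsMember (x : G) (M : Subgroup G) : Prop := Maximal (IsInv x) M

/-- The conjugate by `t`. -/
abbrev flip (t : G) (M : Subgroup G) : Subgroup G := M.map (MulAut.conj t).toMonoidHom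

/-- `S` is the Sylow `p`-subgroup of the nilpotent invariant subgroup `M`. -/
structure IsPart (x : G) (p : ℕ) (M S : Subgroup G) : Prop where
  le : S ≤ M
  inv : IsInv x S
  pgroup : IsPGroup p S
  card : Nat.card S = p ^ (Nat.card M).factorization p
  norm : normalizer (M : Set G) ≤ normalizer (S : Set G)
  max : ∀ T : Subgroup G, T ≤ M → IsPGroup p T → T ≤ S

theorem mem_map_conj {M : Subgroup G} {g y : G} :
    y ∈ M.map (MulAut.conj g).toMonoidHom ↔ g⁻¹ * y * g ∈ M := by
  simp only [Subgroup.mem_map, MulEquiv.coe_toMonoidHom, MulAut.conj_apply]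
  exact ⟨fun ⟨a, ha, e⟩ => by rw [← e]; simpa [mul_assoc] using ha, fun hy => ⟨_, hy, by group⟩⟩

theorem map_conj_of_mem_normalizer {M : Subgroup G} {g : G} (hg : g ∈ normalizer (M : Set G)) :
    M.map (MulAut.conj g).toMonoidHom = M := by
  ext y
  rw [mem_map_conj]
  have := Subgroup.mem_normalizer_iff.mp (inv_mem hg) y
  rw [inv_inv] at this
  exact this.symm

theorem mem_normalizer_of_map_conj {M : Subgroup G} {g : G}
    (hg : M.map (MulAut.conj g).toMonoidHom = M) : g ∈ normalizer (M : Set G) := by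
  rw [Subgroup.mem_normalizer_iff]
  intro y
  constructor
  · intro hy
    rw [← hg, mem_map_conj]
    simpa [mul_assoc] using hy
  · intro hy
    rw [← hg, mem_map_conj] at hy
    simpa [mul_assoc] using hy

theorem map_conj_mul (M : Subgroup G) (a b : G) :
    (M.map (MulAut.conj b).toMonoidHom).map (MulAut.conj a).toMonoidHom =
      M.map (MulAut.conj (a * b)).toMonoidHom := by
  ext y
  simp only [mem_map_conj, mul_inv_rev, mul_assoc]

theorem card_map_conj (M : Subgroup G) (g : G) :
    Nat.card (M.map (MulAut.conj g).toMonoidHom : Subgroup G) = Nat.card M :=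
  Subgroup.card_map_of_injective (MulAut.conj g).injective

theorem exists_member_ge {D : Subgroup G} (hD : IsInv x D) : ∃ M, D ≤ M ∧ IsMember x M :=
  Finite.exists_le_maximal hD

theorem IsMember.inv {M : Subgroup G} (hM : IsMember x M) : IsInv x M := Maximal.prop hM

theorem IsMember.eq_of_le {M E : Subgroup G} (hM : IsMember x M) (hE : IsInv x E) (hle : M ≤ E) :
    M = E :=
  le_antisymm hle (hM.2 hE hle)

/-- Sylow subgroups of nilpotent invariant subgroups. -/
theorem exists_part (h : Char.SCP.Hyp 3 x) {M : Subgroup G} (hM : IsInv x M) (p : ℕ)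
    [Fact p.Prime] : ∃ S, IsPart x p M S := by
  obtain ⟨P⟩ : Nonempty (Sylow p M) := inferInstance
  have hPn : (P : Subgroup M).Normal := Grp.isNilpotent_iff_sylow_normal.mp (hM.nilpotent h) p inferInstance P
  haveI : (P : Subgroup M).Characteristic := Sylow.characteristic_of_normal P hPn
  have hnorm : normalizer (M : Set G) ≤ normalizer ((P : Subgroup M).map M.subtype : Set G) :=
    fun g hg => mem_normalizer_of_map_conj (Grp.map_char_eq hg (P : Subgroup M))
  refine ⟨(P : Subgroup M).map M.subtype, Subgroup.map_subtype_le _,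
    hM.of_le (Subgroup.map_subtype_le _) (hnorm hM.norm), P.isPGroup'.map _, ?_, hnorm,
    fun T hT hTp => ?_⟩
  · rw [Subgroup.card_map_of_injective M.subtype_injective, P.card_eq_multiplicity]
  · have h1 : IsPGroup p (T.subgroupOf M) := hTp.of_equiv (Subgroup.subgroupOfEquivOfLe hT).symm
    obtain ⟨Q, hQ⟩ := h1.exists_le_sylow
    have hQP : Q = P := by
      haveI := Sylow.unique_of_normal P hPn
      exact Subsingleton.elim _ _
    rw [← Subgroup.map_subgroupOf_eq_of_le hT]
    exact Subgroup.map_mono (hQP ▸ hQ)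

namespace IsPart

variable {p : ℕ} [hp : Fact p.Prime] {M S : Subgroup G}

theorem ne_bot (hS : IsPart x p M S) (hd : p ∣ Nat.card M) : S ≠ ⊥ := by
  intro e
  have h1 := hS.card
  rw [e, Subgroup.card_bot] at h1
  have h2 : 1 ≤ (Nat.card M).factorization p :=
    (hp.out.dvd_iff_one_le_factorization Nat.card_pos.ne').mp hd
  have h3 := Nat.le_self_pow (show (Nat.card M).factorization p ≠ 0 by omega) p
  have := hp.out.two_le
  omega

theorem dvd_of_ne_bot (hS : IsPart x p M S) (hne : S ≠ ⊥) : p ∣ Nat.card M := by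
  by_contra hd
  apply hne
  rw [← Subgroup.card_eq_one, hS.card, Nat.factorization_eq_zero_of_not_dvd hd, pow_zero]

theorem ne_three (hM : IsInv x M) (hS : IsPart x p M S) (hne : S ≠ ⊥) : p ≠ 3 := fun e =>
  hM.not_dvd (e ▸ hS.dvd_of_ne_bot hne)

end IsPart

namespace Ctx

theorem t_inv (c : Ctx x t) : t⁻¹ = t := inv_eq_of_mul_eq_one_left c.invol

theorem t_conj_inv (c : Ctx x t) : t * x⁻¹ * t⁻¹ = x := by
  rw [← conj_inv, c.inverts, inv_inv]

theorem t_mem_N (c : Ctx x t) : t ∈ normalizer (zpowers x : Set G) :=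
  mem_normalizer_of_map_conj (by
    rw [MonoidHom.map_zpowers, MulEquiv.coe_toMonoidHom, MulAut.conj_apply, c.inverts,
      zpowers_inv])

theorem t_not_mem_zpowers (c : Ctx x t) : t ∉ zpowers x := fun e => by
  have h1 : t ^ 3 = 1 := by
    obtain ⟨i, rfl⟩ := e
    show (x ^ i) ^ 3 = 1
    rw [← zpow_natCast, ← zpow_mul, mul_comm, zpow_mul, zpow_natCast, pow_three_eq c.hyp, one_zpow]
  rw [pow_succ, pow_two, c.invol, one_mul] at h1
  exact c.ne_one h1

theorem mem_N_cases (c : Ctx x t) {n : G} (hn : n ∈ normalizer (zpowers x : Set G)) :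
    n ∈ zpowers x ∨ t * n ∈ zpowers x := by
  set N := normalizer (zpowers x : Set G)
  have hle : zpowers x ≤ N := Subgroup.le_normalizer
  have hidx : ((zpowers x).subgroupOf N).index = 2 := by
    have h1 := ((zpowers x).subgroupOf N).card_mul_index
    rw [Nat.card_congr (Subgroup.subgroupOfEquivOfLe hle).toEquiv, Nat.card_zpowers, c.hyp.ord, c.six] at h1
    omega
  by_cases hx : n ∈ zpowers x
  · exact Or.inl hx
  · right
    have h2 := Subgroup.mul_mem_iff_of_index_two hidx (a := ⟨t, c.t_mem_N⟩) (b := ⟨n, hn⟩)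
    simp only [Subgroup.mem_subgroupOf, Subgroup.coe_mul] at h2
    exact h2.mpr (iff_of_false c.t_not_mem_zpowers hx)

theorem conj_or_flip (c : Ctx x t) {D : Subgroup G} (hD : x ∈ normalizer (D : Set G)) {n : G}
    (hn : n ∈ normalizer (zpowers x : Set G)) :
    D.map (MulAut.conj n).toMonoidHom = D ∨ D.map (MulAut.conj n).toMonoidHom = flip t D := by
  rcases c.mem_N_cases hn with e | e
  · exact Or.inl (map_conj_of_mem_normalizer ((zpowers_le.mpr hD) e))
  · refine Or.inr ?_
    rw [show n = t * (t * n) by rw [← mul_assoc, c.invol, one_mul], ← map_conj_mul,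
      map_conj_of_mem_normalizer ((zpowers_le.mpr hD) e)]

theorem flip_flip (c : Ctx x t) (D : Subgroup G) : flip t (flip t D) = D := by
  rw [flip, flip, map_conj_mul, c.invol]
  ext y
  simp

theorem isInv_flip (c : Ctx x t) {D : Subgroup G} (hD : IsInv x D) : IsInv x (flip t D) := by
  refine ⟨?_, by rw [card_map_conj]; exact hD.not_dvd⟩
  exact Subgroup.le_normalizer_map (MulAut.conj t).toMonoidHom
    ⟨x⁻¹, inv_mem hD.norm, c.t_conj_inv⟩

theorem member_flip (c : Ctx x t) {M : Subgroup G} (hM : IsMember x M) : IsMember x (flip t M) := by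
  refine ⟨c.isInv_flip hM.inv, fun E hE hle => ?_⟩
  have h1 : M ≤ flip t E := by
    rw [← c.flip_flip M]
    exact Subgroup.map_mono hle
  have h2 := hM.2 (c.isInv_flip hE) h1
  rw [← c.flip_flip E]
  exact Subgroup.map_mono h2

theorem flip_eq_iff (c : Ctx x t) {M : Subgroup G} : flip t M = M ↔ t ∈ normalizer (M : Set G) :=
  ⟨mem_normalizer_of_map_conj, map_conj_of_mem_normalizer⟩

theorem exists_normalizing (c : Ctx x t) {H : Subgroup G} (hx : x ∈ H) {g : G}
    (hg : g * x * g⁻¹ ∈ H) : ∃ h ∈ H, h * g ∈ normalizer (zpowers x : Set G) := by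
  haveI := Fact.mk Nat.prime_three
  have hh := hyp_subgroup c.hyp hx
  have hord : orderOf (⟨g * x * g⁻¹, hg⟩ : H) = 3 := by
    rw [Subgroup.orderOf_mk, ← MulAut.conj_apply, MulEquiv.orderOf_eq, c.hyp.ord]
  obtain ⟨a, ha⟩ := Char.SCP.exists_conj_mem hh hord
  refine ⟨a, a.2, ?_⟩
  refine Char.SCP.mem_N_of_conj c.hyp (Subgroup.mem_zpowers x) (x_ne_one c.hyp) ?_
  obtain ⟨i, hi⟩ := ha
  refine ⟨i, ?_⟩
  have hi' := congrArg Subtype.val hi
  simp only [Subgroup.coe_zpow, Subgroup.coe_mul, Subgroup.coe_inv] at hi'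
  show x ^ i = _
  rw [hi']
  group

theorem normalizer_ne_top (c : Ctx x t) {D : Subgroup G} (hD : IsInv x D) (hne : D ≠ ⊥) :
    normalizer (D : Set G) ≠ ⊤ := by
  intro e
  haveI := c.simple
  rcases IsSimpleGroup.eq_bot_or_eq_top_of_normal D (Subgroup.normalizer_eq_top_iff.mp e) with e' | e'
  · exact hne e'
  · exact hD.not_dvd (e' ▸ c.hyp.ord ▸ (Subgroup.card_top (G := G)).symm ▸ orderOf_dvd_natCard x)

theorem local_cases (c : Ctx x t) {D : Subgroup G} (hD : IsInv x D) (hne : D ≠ ⊥) :
    (∃ O, TypeOne x (normalizer (D : Set G)) O) ∨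
      ∃ O W, TypeTwo x (normalizer (D : Set G)) O W :=
  local_type c.hyp hD.norm (c.sub _ (c.normalizer_ne_top hD hne) hD.norm) hD hne
    Subgroup.le_normalizer le_rfl

theorem typeOne_mem_t (c : Ctx x t) {H O : Subgroup G} (hO : TypeOne x H O) (hxH : x ∈ H) :
    (t ∈ H → Nat.card H = 6 * Nat.card O) ∧ (t ∉ H → Nat.card H = 3 * Nat.card O) := by
  haveI := Fact.mk Nat.prime_three
  constructor
  · intro ht
    refine hO.card.resolve_left fun e => ?_
    haveI : (O.subgroupOf H).Normal := Subgroup.normal_subgroupOf_of_le_normalizer hO.norm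
    have hidx : (O.subgroupOf H).index = 3 := by
      have h1 := (O.subgroupOf H).card_mul_index
      rw [Nat.card_congr (Subgroup.subgroupOfEquivOfLe hO.le).toEquiv, e, mul_comm 3] at h1
      exact Nat.eq_of_mul_eq_mul_left Nat.card_pos h1
    have h3 := Subgroup.pow_index_mem (O.subgroupOf H) (⟨t, ht⟩ : H)
    rw [hidx, Subgroup.mem_subgroupOf, Subgroup.coe_pow, pow_succ, pow_two, c.invol, one_mul] at h3
    have h4 : x * (t * x⁻¹ * t⁻¹) ∈ O := by
      rw [show x * (t * x⁻¹ * t⁻¹) = x * t * x⁻¹ * t⁻¹ by group]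
      exact mul_mem ((Subgroup.mem_normalizer_iff.mp hO.inv.norm t).mp h3) (inv_mem h3)
    rw [c.t_conj_inv] at h4
    have h5 : orderOf (x * x) ∣ Nat.card O := Subgroup.orderOf_dvd_natCard O h4
    rw [show x * x = x ^ 2 by rw [pow_two], Nat.Coprime.orderOf_pow (by rw [c.hyp.ord]; norm_num),
      c.hyp.ord] at h5
    exact hO.inv.not_dvd h5
  · intro ht
    refine hO.card.resolve_right fun e => ?_
    set xH : H := ⟨x, hxH⟩
    have hh := hyp_subgroup c.hyp hxH
    obtain ⟨Q, hQ⟩ := Char.SCP.exists_sylow hh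
    have hN : Nat.card (normalizer ((Q : Subgroup H) : Set H)) = 3 := by
      have hle : normalizer ((Q : Subgroup H) : Set H) ≤ Q := by
        intro n hn
        rw [hQ] at hn ⊢
        have hn' : (n : G) ∈ normalizer (zpowers x : Set G) := by
          refine Char.SCP.mem_N_of_conj c.hyp (Subgroup.mem_zpowers x) (x_ne_one c.hyp) ?_
          obtain ⟨i, hi⟩ := (Subgroup.mem_normalizer_iff.mp hn xH).mp (Subgroup.mem_zpowers _)
          exact ⟨i, by simpa using congrArg Subtype.val hi⟩
        rcases c.mem_N_cases hn' with e' | e'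
        · obtain ⟨i, hi⟩ := e'
          exact ⟨i, Subtype.ext (by simpa using hi)⟩
        · exfalso
          have h1 : t * n ∈ H := (zpowers_le.mpr hxH) e'
          exact ht (by simpa using mul_mem h1 (inv_mem n.2))
      rw [le_antisymm hle Subgroup.le_normalizer, hQ]
      exact Char.SCP.card_P hh
    have hs := card_sylow_modEq_one 3 H
    rw [Q.card_eq_index_normalizer] at hs
    have h2 := (normalizer ((Q : Subgroup H) : Set H)).card_mul_index
    rw [hN, e] at h2
    have h3 := hO.inv.card_mod c.hyp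
    have hs' : (normalizer ((Q : Subgroup H) : Set H)).index % 3 = 1 % 3 := hs
    omega

end Ctx

namespace IsMember

variable {M M' : Subgroup G}

theorem typeOne (hM : IsMember x M) (c : Ctx x t) (hne : M ≠ ⊥) :
    TypeOne x (normalizer (M : Set G)) M := by
  rcases c.local_cases hM.inv hne with ⟨O, hO⟩ | ⟨O, W, hO⟩
  · have e := hM.eq_of_le hO.inv (hO.uniq M hM.inv Subgroup.le_normalizer)
    exact e ▸ hO
  · exfalso
    obtain ⟨hW, -, hOW, hWc⟩ := hO.part 0
    have h1 : M ≤ O := hO.normal_le M hM.inv Subgroup.le_normalizer le_rfl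
    have e := hM.eq_of_le hW (h1.trans hOW)
    have h2 := Subgroup.card_dvd_of_le h1
    rw [e, hWc] at h2
    have := Nat.le_of_dvd Nat.card_pos h2
    have : 0 < Nat.card O := Nat.card_pos
    omega

theorem card_normalizer_self (hM : IsMember x M) (c : Ctx x t) (hne : M ≠ ⊥)
    (ht : t ∈ normalizer (M : Set G)) : Nat.card (normalizer (M : Set G)) = 6 * Nat.card M :=
  (c.typeOne_mem_t (hM.typeOne c hne) hM.inv.norm).1 ht

theorem card_normalizer_free (hM : IsMember x M) (c : Ctx x t) (hne : M ≠ ⊥)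
    (ht : t ∉ normalizer (M : Set G)) : Nat.card (normalizer (M : Set G)) = 3 * Nat.card M :=
  (c.typeOne_mem_t (hM.typeOne c hne) hM.inv.norm).2 ht

variable {p : ℕ} [hp : Fact p.Prime] {S S' : Subgroup G}

theorem normalizer_part (hM : IsMember x M) (c : Ctx x t) (hne : M ≠ ⊥) (hS : IsPart x p M S)
    (hS1 : S ≠ ⊥) : normalizer (S : Set G) = normalizer (M : Set G) := by
  refine le_antisymm ?_ hS.norm
  have hMH : M ≤ normalizer (S : Set G) := Subgroup.le_normalizer.trans hS.norm
  rcases c.local_cases hS.inv hS1 with ⟨O, hO⟩ | ⟨O, W, hO⟩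
  · have e := hM.eq_of_le hO.inv (hO.uniq M hM.inv hMH)
    exact e ▸ hO.norm
  · exfalso
    obtain ⟨i, hi⟩ : ∃ i, M ≤ W i := (hO.cover M hM.inv hMH).elim (⟨0, ·⟩) (⟨1, ·⟩)
    have e := hM.eq_of_le (hO.part i).1 hi
    have hSO : S ≤ O := hO.normal_le S hS.inv Subgroup.le_normalizer le_rfl
    obtain ⟨⟨a, haS⟩, ha⟩ := exists_prime_orderOf_dvd_card' (G := S) p (by
      obtain ⟨k, hk⟩ := IsPGroup.iff_card.mp hS.pgroup
      have hk0 : k ≠ 0 := fun e' => hS1 (Subgroup.card_eq_one.mp (by rw [hk, e', pow_zero]))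
      rw [hk]
      exact dvd_pow_self p hk0)
    rw [Subgroup.orderOf_mk] at ha
    have hp2 : p = 2 := by
      have h1 : orderOf a ∣ 2 := orderOf_dvd_of_pow_eq_one (by rw [pow_two]; exact hO.sq a (hSO haS))
      rw [ha] at h1
      exact (Nat.prime_dvd_prime_iff_eq hp.out Nat.prime_two).mp h1
    haveI := Fact.mk Nat.prime_two
    obtain ⟨k, hk⟩ := IsPGroup.iff_card.mp (show IsPGroup 2 O from fun b =>
      ⟨1, Subtype.ext (by simpa [pow_two] using hO.sq b b.2)⟩)
    have hcM : Nat.card M = 2 ^ (2 + k) := by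
      rw [e, (hO.part i).2.2.2, hk, pow_add]
      norm_num
    have h2 := Subgroup.card_dvd_of_le hSO
    rw [hS.card, hp2, hcM, Nat.prime_two.factorization_pow, Finsupp.single_eq_same, hk,
      Nat.pow_dvd_pow_iff_le_right (le_refl 2)] at h2
    omega

theorem eq_of_part_eq (hM : IsMember x M) (hM' : IsMember x M') (c : Ctx x t) (hne : M ≠ ⊥)
    (hne' : M' ≠ ⊥) (hS : IsPart x p M S) (hS' : IsPart x p M' S) (hS1 : S ≠ ⊥) : M = M' := by
  have e : normalizer (M : Set G) = normalizer (M' : Set G) :=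
    (hM.normalizer_part c hne hS hS1).symm.trans (hM'.normalizer_part c hne' hS' hS1)
  exact hM.eq_of_le hM'.inv ((hM'.typeOne c hne').uniq M hM.inv (e ▸ Subgroup.le_normalizer))

theorem part_flip (c : Ctx x t) (hS : IsPart x p M S) : IsPart x p (flip t M) (flip t S) where
  le := Subgroup.map_mono hS.le
  inv := c.isInv_flip hS.inv
  pgroup := hS.pgroup.map _
  card := by rw [card_map_conj, card_map_conj, hS.card]
  norm := by
    intro g hg
    have h1 := map_conj_of_mem_normalizer hg
    rw [flip, map_conj_mul] at h1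
    have h2 : t * g * t ∈ normalizer (M : Set G) := by
      refine mem_normalizer_of_map_conj ?_
      rw [mul_assoc, ← map_conj_mul, h1]
      exact c.flip_flip M
    have h3 := map_conj_of_mem_normalizer (hS.norm h2)
    refine mem_normalizer_of_map_conj ?_
    calc (flip t S).map (MulAut.conj g).toMonoidHom
        = (S.map (MulAut.conj (t * g * t)).toMonoidHom).map (MulAut.conj t).toMonoidHom := by
          rw [flip, map_conj_mul, map_conj_mul, ← mul_assoc, ← mul_assoc, c.invol, one_mul]
      _ = flip t S := by rw [h3]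
  max T hT hTp := by
    have h1 : flip t T ≤ M := by
      rw [← c.flip_flip M]
      exact Subgroup.map_mono hT
    rw [← c.flip_flip T]
    exact Subgroup.map_mono (hS.max _ h1 (hTp.map _))

theorem eq_or_flip_of_conj (hM : IsMember x M) (hM' : IsMember x M') (c : Ctx x t) (hne : M ≠ ⊥)
    (hne' : M' ≠ ⊥) (hS : IsPart x p M S) (hS' : IsPart x p M' S') (hS1 : S ≠ ⊥) {g : G}
    (hg : S.map (MulAut.conj g).toMonoidHom = S') : M' = M ∨ M' = flip t M := by
  have hgx : g * x * g⁻¹ ∈ normalizer (S' : Set G) :=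
    hg ▸ Subgroup.le_normalizer_map (MulAut.conj g).toMonoidHom ⟨x, hS.inv.norm, rfl⟩
  obtain ⟨k, hk, hkg⟩ := c.exists_normalizing hS'.inv.norm hgx
  have e : S.map (MulAut.conj (k * g)).toMonoidHom = S' := by
    rw [← map_conj_mul, hg, map_conj_of_mem_normalizer hk]
  have hS1' : S' ≠ ⊥ := fun e' => hS1 (Subgroup.card_eq_one.mp
    (by rw [← card_map_conj S (k * g), e, e', Subgroup.card_bot]))
  rcases c.conj_or_flip hS.inv.norm hkg with e' | e'
  · refine Or.inl (hM'.eq_of_part_eq hM c hne' hne hS' ?_ hS1')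
    rwa [← e, e']
  · refine Or.inr (hM'.eq_of_part_eq (c.member_flip hM) c hne' ?_ hS' ?_ hS1')
    · exact fun e'' => hne (Subgroup.card_eq_one.mp (by rw [← card_map_conj M t]; exact Subgroup.card_eq_one.mpr e''))
    · rw [← e, e']
      exact part_flip c hS

theorem part_is_sylow (hM : IsMember x M) (c : Ctx x t) (hne : M ≠ ⊥) (hS : IsPart x p M S)
    (hS1 : S ≠ ⊥) (hpt : p ≠ 2 ∨ t ∉ normalizer (M : Set G)) :
    ∃ Q : Sylow p G, (Q : Subgroup G) = S := by
  obtain ⟨Q, hQ⟩ := hS.pgroup.exists_le_sylow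
  refine ⟨Q, ?_⟩
  by_contra hneq
  have hlt : S < (Q : Subgroup G) := lt_of_le_of_ne hQ fun e => hneq e.symm
  haveI : Group.IsNilpotent (Q : Subgroup G) := Q.isPGroup'.isNilpotent
  have hlt' : S.subgroupOf (Q : Subgroup G) < ⊤ := by
    refine lt_top_iff_ne_top.mpr fun e => hneq ?_
    exact le_antisymm (Subgroup.subgroupOf_eq_top.mp e) hQ
  have h1 := Group.normalizerCondition_of_isNilpotent (G := (Q : Subgroup G)) _ hlt'
  set T := (normalizer ((S.subgroupOf (Q : Subgroup G)) : Set (Q : Subgroup G))).map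
    (Q : Subgroup G).subtype
  have hTH : T ≤ normalizer (M : Set G) := by
    rw [← hM.normalizer_part c hne hS hS1]
    rintro _ ⟨n, hn, rfl⟩
    rw [Subgroup.mem_normalizer_iff]
    intro y
    constructor
    · intro hy
      exact (Subgroup.mem_normalizer_iff.mp hn ⟨y, hQ hy⟩).mp hy
    · intro hy
      have hyQ : y ∈ (Q : Subgroup G) := by
        have := mul_mem (mul_mem (inv_mem n.2) (hQ hy)) n.2
        simpa [mul_assoc] using this
      exact (Subgroup.mem_normalizer_iff.mp hn ⟨y, hyQ⟩).mpr hy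
  obtain ⟨k, hk⟩ := IsPGroup.iff_card.mp (Q.isPGroup'.to_le (Subgroup.map_subtype_le
    (normalizer ((S.subgroupOf (Q : Subgroup G)) : Set (Q : Subgroup G)))))
  have hd := Subgroup.card_dvd_of_le hTH
  rw [show Nat.card T = p ^ k from hk] at hd
  have hd2 : p ^ k ∣ Nat.card M := by
    have hp3 := hS.ne_three hM.inv hS1
    have h3 : Nat.Coprime p 3 := (Nat.coprime_primes hp.out Nat.prime_three).mpr hp3
    by_cases ht : t ∈ normalizer (M : Set G)
    · have hp2 : p ≠ 2 := hpt.resolve_right (not_not_intro ht)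
      rw [hM.card_normalizer_self c hne ht] at hd
      refine (Nat.Coprime.pow_left k ?_).dvd_of_dvd_mul_left hd
      exact Nat.Coprime.mul_right ((Nat.coprime_primes hp.out Nat.prime_two).mpr hp2) h3
    · rw [hM.card_normalizer_free c hne ht] at hd
      exact (Nat.Coprime.pow_left k h3).dvd_of_dvd_mul_left hd
  have hle : p ^ k ≤ Nat.card S := by
    rw [hS.card]
    exact Nat.pow_le_pow_right hp.out.pos
      ((hp.out.pow_dvd_iff_le_factorization Nat.card_pos.ne').mp hd2)
  have hgt : Nat.card S < Nat.card T := by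
    rw [Subgroup.card_map_of_injective (Q : Subgroup G).subtype_injective,
      ← Nat.card_congr (Subgroup.subgroupOfEquivOfLe hQ).toEquiv]
    by_contra hle'
    exact h1.ne (Subgroup.eq_of_le_of_card_ge h1.le (not_lt.mp hle'))
  rw [show Nat.card T = p ^ k from hk] at hgt
  omega

/-- Members sharing a prime for which both Sylow subgroups are Sylow in the whole group. -/
theorem eq_or_flip_of_prime (hM : IsMember x M) (hM' : IsMember x M') (c : Ctx x t)
    (hd : p ∣ Nat.card M) (hd' : p ∣ Nat.card M')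
    (hpt : p ≠ 2 ∨ (t ∉ normalizer (M : Set G) ∧ t ∉ normalizer (M' : Set G))) :
    M' = M ∨ M' = flip t M := by
  have hne : M ≠ ⊥ := fun e => hp.out.not_dvd_one (by rwa [e, Subgroup.card_bot] at hd)
  have hne' : M' ≠ ⊥ := fun e => hp.out.not_dvd_one (by rwa [e, Subgroup.card_bot] at hd')
  obtain ⟨S, hS⟩ := exists_part c.hyp hM.inv p
  obtain ⟨S', hS'⟩ := exists_part c.hyp hM'.inv p
  obtain ⟨Q, hQ⟩ := hM.part_is_sylow c hne hS (hS.ne_bot hd) (hpt.imp id And.left)
  obtain ⟨Q', hQ'⟩ := hM'.part_is_sylow c hne' hS' (hS'.ne_bot hd') (hpt.imp id And.right)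
  obtain ⟨g, hg⟩ := MulAction.exists_smul_eq G Q Q'
  refine hM.eq_or_flip_of_conj hM' c hne hne' hS hS' (hS.ne_bot hd) (g := g) ?_
  rw [← hQ, ← hQ', ← hg, Sylow.coe_subgroup_smul]
  rfl

end IsMember

end Cfsg.Agent.Fus.SCThree
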