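import Mathlib
import Cfsg.Agent.Lib.Fus.SelfCentThree.Locals
import Cfsg.Agent.Lib.Block.Order168Classes

/-!
The Sylow 2-subgroups seen by the maximal invariant subgroups of order prime to three.
-/

set_option autoImplicit false
set_option linter.style.haveILetI false
set_option linter.unusedSectionVars false
set_option linter.unusedVariables false

namespace Cfsg.Agent.Fus.SCThree

open Subgroup
open scoped commutatorElement

universe u

variable {G : Type u} [Group G] [Finite G] {x t : G}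

/-- A member of even order fixed by `t`, with its Sylow 2-subgroup. -/
structure SelfEven (x t : G) (M S : Subgroup G) : Prop where
  member : IsMember x M
  part : IsPart x 2 M S
  ne : S ≠ ⊥
  fix : t ∈ normalizer (M : Set G)

theorem IsMember.ne_bot_of_dvd {M : Subgroup G} {p : ℕ} (hp : p.Prime) (hd : p ∣ Nat.card M) : M ≠ ⊥ :=
  fun e => hp.not_dvd_one (by rwa [e, Subgroup.card_bot] at hd)

theorem exists_selfEven (c : Ctx x t) {M : Subgroup G} (hM : IsMember x M) (h2 : 2 ∣ Nat.card M)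
    (ht : t ∈ normalizer (M : Set G)) : ∃ S, SelfEven x t M S := by
  haveI := Fact.mk Nat.prime_two
  obtain ⟨S, hS⟩ := exists_part c.hyp hM.inv 2
  exact ⟨S, hM, hS, hS.ne_bot h2, ht⟩

/-- The central elements of a subgroup. -/
abbrev cenIn (Q : Subgroup G) : Subgroup G := Q ⊓ centralizer (Q : Set G)

theorem cenIn_ne_bot {Q : Subgroup G} (hQ : IsPGroup 2 Q) (hne : Q ≠ ⊥) : cenIn Q ≠ ⊥ := by
  haveI := Fact.mk Nat.prime_two
  haveI : Nontrivial Q := (Subgroup.nontrivial_iff_ne_bot _).mpr hne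
  haveI := hQ.center_nontrivial
  obtain ⟨z, hz⟩ := exists_ne (1 : center Q)
  intro e
  refine hz (Subtype.ext (Subtype.ext ?_))
  have hmem : ((z : Q) : G) ∈ cenIn Q := ⟨(z : Q).2, Subgroup.mem_centralizer_iff.mpr fun q hq =>
    congrArg Subtype.val (Subgroup.mem_center_iff.mp z.2 ⟨q, hq⟩)⟩
  rw [e, Subgroup.mem_bot] at hmem
  exact hmem

theorem cenIn_map (Q : Subgroup G) (g : G) :
    cenIn (Q.map (MulAut.conj g).toMonoidHom) = (cenIn Q).map (MulAut.conj g).toMonoidHom := by
  ext y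
  simp only [cenIn, Subgroup.mem_inf, mem_map_conj, Subgroup.mem_centralizer_iff, SetLike.mem_coe]
  refine and_congr_right fun hy => ⟨fun h q hq => ?_, fun h q hq => ?_⟩
  · have := h (g * q * g⁻¹) (by simpa [mul_assoc] using hq)
    calc q * (g⁻¹ * y * g) = g⁻¹ * (g * q * g⁻¹ * y) * g := by group
      _ = g⁻¹ * y * g * q := by rw [this]; group
  · have := h (g⁻¹ * q * g) hq
    calc q * y = g * (g⁻¹ * q * g * (g⁻¹ * y * g)) * g⁻¹ := by group
      _ = y * q := by rw [this]; group

namespace SelfEven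

variable {M S : Subgroup G}

theorem memb_ne (h : SelfEven x t M S) : M ≠ ⊥ := fun e => h.ne (le_bot_iff.mp (e ▸ h.part.le))

theorem normalizer_eq (h : SelfEven x t M S) (c : Ctx x t) :
    normalizer (S : Set G) = normalizer (M : Set G) :=
  haveI := Fact.mk Nat.prime_two
  h.member.normalizer_part c h.memb_ne h.part h.ne

theorem t_norm (h : SelfEven x t M S) : t ∈ normalizer (S : Set G) := h.part.norm h.fix

theorem t_not_mem (h : SelfEven x t M S) (c : Ctx x t) : t ∉ S := fun ht => by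
  have h4 : x * (t * x⁻¹ * t⁻¹) ∈ S := by
    rw [show x * (t * x⁻¹ * t⁻¹) = x * t * x⁻¹ * t⁻¹ by group]
    exact mul_mem ((Subgroup.mem_normalizer_iff.mp h.part.inv.norm t).mp ht) (inv_mem ht)
  rw [c.t_conj_inv] at h4
  have h5 := Subgroup.orderOf_dvd_natCard S h4
  rw [← pow_two, Nat.Coprime.orderOf_pow (by rw [c.hyp.ord]; norm_num), c.hyp.ord] at h5
  exact h.part.inv.not_dvd h5

theorem mem_sup_iff (h : SelfEven x t M S) (c : Ctx x t) {g : G} :
    g ∈ zpowers t ⊔ S ↔ g ∈ S ∨ t * g ∈ S := by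
  constructor
  · intro hg
    rw [← SetLike.mem_coe, Subgroup.coe_mul_of_left_le_normalizer_right _ _
      (zpowers_le.mpr h.t_norm)] at hg
    obtain ⟨a, ha, b, hb, rfl⟩ := hg
    obtain ⟨i, rfl⟩ := ha
    have h2 : t ^ (2 : ℤ) = 1 := by rw [zpow_two]; exact c.invol
    rcases Int.even_or_odd i with ⟨j, rfl⟩ | ⟨j, rfl⟩
    · left
      show t ^ (j + j) * b ∈ S
      rw [← two_mul, zpow_mul, h2, one_zpow, one_mul]
      exact hb
    · right
      show t * (t ^ (2 * j + 1) * b) ∈ S
      rw [zpow_add_one, zpow_mul, h2, one_zpow, one_mul, ← mul_assoc, c.invol, one_mul]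
      exact hb
  · rintro (hg | hg)
    · exact Subgroup.mem_sup_right hg
    · rw [show g = t * (t * g) by rw [← mul_assoc, c.invol, one_mul]]
      exact mul_mem (Subgroup.mem_sup_left (Subgroup.mem_zpowers t)) (Subgroup.mem_sup_right hg)

theorem sup_le_normalizer (h : SelfEven x t M S) : zpowers t ⊔ S ≤ normalizer (S : Set G) :=
  sup_le (zpowers_le.mpr h.t_norm) Subgroup.le_normalizer

theorem relIndex_sup (h : SelfEven x t M S) (c : Ctx x t) : S.relIndex (zpowers t ⊔ S) = 2 := by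
  rw [Subgroup.relIndex, Subgroup.index_eq_two_iff]
  refine ⟨⟨t, Subgroup.mem_sup_left (Subgroup.mem_zpowers t)⟩, fun g => ?_⟩
  simp only [Subgroup.mem_subgroupOf, Subgroup.coe_mul]
  have hg : t * (g : G) * t⁻¹ ∈ S ↔ (g : G) ∈ S :=
    (Subgroup.mem_normalizer_iff.mp h.t_norm g).symm
  have e : (g : G) * t ∈ S ↔ t * (g : G) ∈ S := by
    rw [Subgroup.mem_normalizer_iff.mp h.t_norm ((g : G) * t),
      show t * ((g : G) * t) * t⁻¹ = t * g by group]
  rw [e]
  rcases (h.mem_sup_iff c).mp g.2 with h1 | h1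
  · refine Or.inr ⟨h1, fun h2 => h.t_not_mem c ?_⟩
    simpa using mul_mem h2 (inv_mem h1)
  · refine Or.inl ⟨h1, fun h2 => h.t_not_mem c ?_⟩
    simpa using mul_mem h1 (inv_mem h2)

theorem card_sup (h : SelfEven x t M S) (c : Ctx x t) :
    Nat.card (zpowers t ⊔ S : Subgroup G) = 2 * Nat.card S := by
  have h1 := (S.subgroupOf (zpowers t ⊔ S)).card_mul_index
  rw [show (S.subgroupOf (zpowers t ⊔ S)).index = 2 from h.relIndex_sup c,
    Nat.card_congr (Subgroup.subgroupOfEquivOfLe le_sup_right).toEquiv] at h1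
  omega

theorem isPGroup_sup (h : SelfEven x t M S) (c : Ctx x t) : IsPGroup 2 (zpowers t ⊔ S : Subgroup G) := by
  haveI := Fact.mk Nat.prime_two
  refine IsPGroup.of_card (n := (Nat.card M).factorization 2 + 1) ?_
  rw [h.card_sup c, h.part.card, pow_succ']

theorem card_ge (h : SelfEven x t M S) (c : Ctx x t) : 4 ≤ Nat.card S := by
  have h1 := h.part.inv.card_mod c.hyp
  have h2 : Nat.card S ≠ 1 := fun e => h.ne (Subgroup.card_eq_one.mp e)
  omega

theorem eq_sup (h : SelfEven x t M S) (c : Ctx x t) {T : Subgroup G} (hT : IsPGroup 2 T)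
    (hle : zpowers t ⊔ S ≤ T) (hTN : T ≤ normalizer (S : Set G)) : T = zpowers t ⊔ S := by
  haveI := Fact.mk Nat.prime_two
  refine (Subgroup.eq_of_le_of_card_ge hle ?_).symm
  obtain ⟨k, hk⟩ := IsPGroup.iff_card.mp hT
  have hd := Subgroup.card_dvd_of_le hTN
  rw [h.normalizer_eq c, h.member.card_normalizer_self c h.memb_ne h.fix, hk,
    show 6 * Nat.card M = 3 * (2 * Nat.card M) by ring] at hd
  have hd2 : 2 ^ k ∣ 2 * Nat.card M :=
    (Nat.Coprime.pow_left k (by norm_num : Nat.Coprime 2 3)).dvd_of_dvd_mul_left hd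
  have hm : 2 * Nat.card M ≠ 0 := by
    have : 0 < Nat.card M := Nat.card_pos
    omega
  have hle' := (Nat.prime_two.pow_dvd_iff_le_factorization hm).mp hd2
  rw [Nat.factorization_mul two_ne_zero Nat.card_pos.ne', Finsupp.add_apply,
    Nat.prime_two.factorization_self] at hle'
  rw [hk, h.card_sup c, h.part.card, ← pow_succ']
  exact Nat.pow_le_pow_right (by norm_num) (by omega)

theorem inf_normalizer (h : SelfEven x t M S) (c : Ctx x t) {Q : Subgroup G} (hQ : IsPGroup 2 Q)
    (hle : zpowers t ⊔ S ≤ Q) : Q ⊓ normalizer (S : Set G) = zpowers t ⊔ S :=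
  h.eq_sup c (hQ.to_le inf_le_left) (le_inf hle h.sup_le_normalizer) inf_le_right

/-- Conjugation by `t`. -/
def tau (h : SelfEven x t M S) : S ≃* S := S.normalizerMonoidHom ⟨t, h.t_norm⟩

theorem tau_coe (h : SelfEven x t M S) (a : S) : ((h.tau a : S) : G) = t * a * t⁻¹ := rfl

theorem inverted (h : SelfEven x t M S) (c : Ctx x t) : IsInverted h.part.inv.aut h.tau where
  toIsFpfThree := h.part.inv.isFpf c.hyp
  invol a := Subtype.ext (by
    rw [tau_coe, tau_coe, c.t_inv,
      show t * (t * (a : G) * t) * t = (t * t) * a * (t * t) by group, c.invol, one_mul, mul_one])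
  inverts a := Subtype.ext (by
    rw [tau_coe, IsInv.aut_coe, tau_coe, IsInv.aut_coe, IsInv.aut_coe]
    have e : t * x * t = x * x := by
      have h1 := c.inverts
      rw [c.t_inv] at h1
      rw [h1]
      refine inv_eq_of_mul_eq_one_right ?_
      rw [← pow_three]; exact pow_three_eq c.hyp
    have e' : t * x⁻¹ * t = (x * x)⁻¹ := by
      rw [← e, mul_inv_rev, mul_inv_rev, c.t_inv, mul_assoc]
    rw [c.t_inv]
    calc t * (x * (t * (a : G) * t) * x⁻¹) * t = (t * x * t) * a * (t * x⁻¹ * t) := by group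
      _ = x * (x * a * x⁻¹) * x⁻¹ := by rw [e, e']; group)

theorem centralizer_le (h : SelfEven x t M S) (c : Ctx x t) {Q : Subgroup G} (hQ : IsPGroup 2 Q)
    (hle : zpowers t ⊔ S ≤ Q) : Q ⊓ centralizer (S : Set G) ≤ S := by
  rintro g ⟨hgQ, hgC⟩
  have hgN : g ∈ normalizer (S : Set G) := Subgroup.centralizer_le_normalizer _ hgC
  have hg : g ∈ zpowers t ⊔ S := h.inf_normalizer c hQ hle ▸ ⟨hgQ, hgN⟩
  rcases (h.mem_sup_iff c).mp hg with h1 | h1
  · exact h1
  exfalso
  have hfix : ∀ z ∈ center S, h.tau z = z := by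
    intro z hz
    refine Subtype.ext ?_
    rw [tau_coe, c.t_inv]
    have e1 : (t * g) * (z : G) = z * (t * g) :=
      congrArg Subtype.val (Subgroup.mem_center_iff.mp hz ⟨t * g, h1⟩)
    have e2 : (z : G) * g = g * z := Subgroup.mem_centralizer_iff.mp hgC _ z.2
    calc t * (z : G) * t = t * (z * g) * g⁻¹ * t := by group
      _ = (t * g * z) * g⁻¹ * t := by rw [e2]; group
      _ = z * (t * t) := by rw [e1]; group
      _ = z := by rw [c.invol, mul_one]
  have hb := (h.inverted c).center_fixed hfix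
  haveI := Fact.mk Nat.prime_two
  haveI : Nontrivial S := (Subgroup.nontrivial_iff_ne_bot _).mpr h.ne
  haveI := h.part.pgroup.center_nontrivial
  exact (Subgroup.nontrivial_iff_ne_bot _).mp ‹Nontrivial (center S)› hb

theorem cenIn_le (h : SelfEven x t M S) (c : Ctx x t) {Q : Subgroup G} (hQ : IsPGroup 2 Q)
    (hle : zpowers t ⊔ S ≤ Q) : cenIn Q ≤ S := fun g hg =>
  h.centralizer_le c hQ hle ⟨hg.1, Subgroup.mem_centralizer_iff.mpr fun a ha =>
    Subgroup.mem_centralizer_iff.mp hg.2 a (hle (Subgroup.mem_sup_right ha))⟩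

/-- Two distinct index two subgroups of this kind occur only in order four. -/
theorem card_eq_of_twin (h : SelfEven x t M S) (c : Ctx x t) {y : G} (hy : orderOf y = 3)
    {S₂ : Subgroup G} (h2 : IsInv y S₂) (hle : S₂ ≤ zpowers t ⊔ S)
    (hcard : Nat.card S₂ = Nat.card S) (hne : S₂ ≠ S) : Nat.card S = 4 := by
  haveI := Fact.mk Nat.prime_three
  have hhy : Char.SCP.Hyp 3 y := Char.SCP.hyp_of_ord c.hyp hy
  set D := (S ⊓ S₂).subgroupOf S
  have hD : Nat.card S ≤ 2 * Nat.card D := by
    rw [Nat.card_congr (Subgroup.subgroupOfEquivOfLe inf_le_left).toEquiv]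
    have h1 := (S.subgroupOf S₂).card_mul_index
    have h3 : (S.subgroupOf S₂).index ≤ 2 := by
      have := Subgroup.relIndex_le_of_le_right hle (H := S) (by rw [h.relIndex_sup c]; norm_num)
      rwa [h.relIndex_sup c] at this
    have h4 : Nat.card (S.subgroupOf S₂) = Nat.card (S ⊓ S₂ : Subgroup G) := by
      rw [← Subgroup.inf_subgroupOf_right,
        Nat.card_congr (Subgroup.subgroupOfEquivOfLe inf_le_right).toEquiv]
    rw [hcard] at h1
    rw [← h4, ← h1, mul_comm 2]
    exact Nat.mul_le_mul_left _ h3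
  obtain ⟨e, heS₂, heS⟩ : ∃ e ∈ S₂, e ∉ S := by
    by_contra hall
    push Not at hall
    exact hne (Subgroup.eq_of_le_of_card_ge hall hcard.ge)
  have hu : t * e ∈ S := ((h.mem_sup_iff c).mp (hle heS₂)).resolve_left heS
  set uS : S := ⟨t * e, hu⟩
  have hconj : ∀ d : S, ((h.tau (uS * d * uS⁻¹) : S) : G) = e * d * e⁻¹ := by
    intro d
    rw [tau_coe]
    show t * (t * e * d * (t * e)⁻¹) * t⁻¹ = _
    calc _ = (t * t) * e * d * e⁻¹ * (t * t)⁻¹ := by group
      _ = _ := by rw [c.invol, one_mul, inv_one, mul_one]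
  haveI hcomm : IsMulCommutative S := by
    refine (h.inverted c).commutative_of_twin uS hD fun d hd => ?_
    refine (h.part.inv.isFpf c.hyp).central_of_index_two hD fun d' hd' => Subtype.ext ?_
    have hval : ((d⁻¹ * h.tau (uS * d * uS⁻¹) : S) : G) = ⁅(d : G)⁻¹, e⁆ := by
      rw [Subgroup.coe_mul, Subgroup.coe_inv, hconj, commutatorElement_def, inv_inv]
      group
    show ((d⁻¹ * h.tau (uS * d * uS⁻¹) : S) : G) * d' = d' * ((d⁻¹ * h.tau (uS * d * uS⁻¹) : S) : G)
    rw [hval]
    exact (h2.classTwo hhy (inv_mem hd.2) heS₂ hd'.2).eq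
  have hle4 : Nat.card S ≤ 4 := by
    refine (h.inverted c).card_le_of_twin hD fun d hd => Subtype.ext ?_
    have h1 := hconj d
    rw [mul_comm' uS d, mul_inv_cancel_right] at h1
    rw [h1]
    set D₂ := (S ⊓ S₂).subgroupOf S₂
    have hD₂ : Nat.card S₂ ≤ 2 * Nat.card D₂ := by
      rw [hcard, Nat.card_congr (Subgroup.subgroupOfEquivOfLe inf_le_right).toEquiv,
        ← Nat.card_congr (Subgroup.subgroupOfEquivOfLe (inf_le_left (b := S₂) (a := S))).toEquiv]
      exact hD
    have hz := (h2.isFpf hhy).central_of_index_two hD₂ (c := ⟨(d : G), hd.2⟩) fun d' hd' =>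
      show (⟨(d : G), hd.2⟩ : S₂) * d' = d' * ⟨(d : G), hd.2⟩ from Subtype.ext (show (d : G) * d' = d' * d from
        congrArg Subtype.val (mul_comm' d (⟨(d' : G), hd'.1⟩ : S)))
    exact mul_inv_eq_iff_eq_mul.mpr (congrArg Subtype.val (Subgroup.mem_center_iff.mp hz ⟨e, heS₂⟩))
  have := h.card_ge c
  omega

theorem sylow_eq_or_four (h : SelfEven x t M S) (c : Ctx x t) (Q : Sylow 2 G)
    (hle : zpowers t ⊔ S ≤ (Q : Subgroup G)) :
    (Q : Subgroup G) = zpowers t ⊔ S ∨ Nat.card S = 4 := by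
  set R := zpowers t ⊔ S with hR
  rcases eq_or_lt_of_le hle with e | hlt
  · exact Or.inl e.symm
  right
  haveI := Fact.mk Nat.prime_two
  haveI : Group.IsNilpotent (Q : Subgroup G) := Q.isPGroup'.isNilpotent
  have hlt' : R.subgroupOf (Q : Subgroup G) < ⊤ := lt_top_iff_ne_top.mpr fun e =>
    hlt.not_ge (Subgroup.subgroupOf_eq_top.mp e)
  have h1 := Group.normalizerCondition_of_isNilpotent (G := (Q : Subgroup G)) _ hlt'
  obtain ⟨g, hgN, hgR⟩ := SetLike.exists_of_lt h1
  have hgR' : (g : G) ∉ R := hgR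
  have hgS : (g : G) ∉ normalizer (S : Set G) := fun e =>
    hgR' ((h.inf_normalizer c Q.isPGroup' hle).le ⟨g.2, e⟩)
  refine h.card_eq_of_twin c (y := (g : G) * x * (g : G)⁻¹) ?_ (h.part.inv.map (MulAut.conj (g : G)).toMonoidHom)
    ?_ (card_map_conj S _) fun e => hgS (mem_normalizer_of_map_conj e)
  · rw [← MulAut.conj_apply, MulEquiv.orderOf_eq, c.hyp.ord]
  · rintro _ ⟨a, ha, rfl⟩
    exact (Subgroup.mem_normalizer_iff.mp hgN ⟨a, hle (Subgroup.mem_sup_right ha)⟩).mp
      (Subgroup.mem_sup_right ha : a ∈ R)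

theorem exists_sylow (h : SelfEven x t M S) (c : Ctx x t) :
    ∃ Q : Sylow 2 G, zpowers t ⊔ S ≤ (Q : Subgroup G) := (h.isPGroup_sup c).exists_le_sylow

theorem flip_eq (h : SelfEven x t M S) (c : Ctx x t) : flip t M = M := c.flip_eq_iff.mpr h.fix

theorem eq_of_conj (h : SelfEven x t M S) {M' S' : Subgroup G} (h' : SelfEven x t M' S') (c : Ctx x t)
    {g : G} (hg : S.map (MulAut.conj g).toMonoidHom = S') : M' = M := by
  haveI := Fact.mk Nat.prime_two
  rcases h.member.eq_or_flip_of_conj h'.member c h.memb_ne h'.memb_ne h.part h'.part h.ne hg with e | e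
  · exact e
  · rw [e, h.flip_eq c]

/-- Only one such member has a Sylow 2-subgroup of order above four. -/
theorem eq_of_big (h : SelfEven x t M S) {M' S' : Subgroup G} (h' : SelfEven x t M' S') (c : Ctx x t)
    (hb : 4 < Nat.card S) (hb' : 4 < Nat.card S') : M' = M := by
  haveI := Fact.mk Nat.prime_two
  obtain ⟨Q, hQ⟩ := h.exists_sylow c
  obtain ⟨Q', hQ'⟩ := h'.exists_sylow c
  have e := (h.sylow_eq_or_four c Q hQ).resolve_right (by omega)
  have e' := (h'.sylow_eq_or_four c Q' hQ').resolve_right (by omega)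
  obtain ⟨g, hg⟩ := MulAction.exists_smul_eq G Q Q'
  have hmap : (zpowers t ⊔ S).map (MulAut.conj g).toMonoidHom = zpowers t ⊔ S' := by
    rw [← e, ← e', ← hg, Sylow.coe_subgroup_smul]
    rfl
  have hcard : Nat.card S = Nat.card S' := by
    have h1 := h'.card_sup c
    rw [← hmap, card_map_conj, h.card_sup c] at h1
    omega
  refine h.eq_of_conj h' c (g := g) (not_not.mp fun hne => ?_)
  have := h'.card_eq_of_twin c (y := g * x * g⁻¹)
    (by rw [← MulAut.conj_apply, MulEquiv.orderOf_eq, c.hyp.ord]) (h.part.inv.map (MulAut.conj g).toMonoidHom)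
    (hmap ▸ Subgroup.map_mono le_sup_right) ((card_map_conj S g).trans hcard) hne
  omega

theorem cenIn_card_two (h : SelfEven x t M S) (c : Ctx x t) (h4 : Nat.card S = 4) {Q : Subgroup G}
    (hQ : IsPGroup 2 Q) (hle : zpowers t ⊔ S ≤ Q) : Nat.card (cenIn Q) = 2 := by
  have hd := Subgroup.card_dvd_of_le (h.cenIn_le c hQ hle)
  rw [h4] at hd
  have h1 : Nat.card (cenIn Q) ≠ 1 := fun e => cenIn_ne_bot hQ (fun e' => h.ne (by
    rw [e', sup_comm] at hle; exact le_bot_iff.mp (le_sup_left.trans hle))) (Subgroup.card_eq_one.mp e)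
  have h2 : Nat.card (cenIn Q) ≠ 4 := fun e => by
    have e' : cenIn Q = S := Subgroup.eq_of_le_of_card_ge (h.cenIn_le c hQ hle) (by rw [e, h4])
    refine h.t_not_mem c (h.centralizer_le c hQ hle ⟨hle (Subgroup.mem_sup_left (Subgroup.mem_zpowers t)),
      Subgroup.mem_centralizer_iff.mpr fun a ha => ?_⟩)
    have ha' : a ∈ cenIn Q := e' ▸ ha
    exact (Subgroup.mem_centralizer_iff.mp ha'.2 t (hle (Subgroup.mem_sup_left (Subgroup.mem_zpowers t)))).symm
  have h3 : Nat.card (cenIn Q) ≤ 4 := Nat.le_of_dvd (by norm_num) hd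
  interval_cases hk : Nat.card (cenIn Q) <;> omega

theorem normalizer_le_cenIn (T : Subgroup G) : normalizer (T : Set G) ≤ normalizer (cenIn T : Set G) :=
  fun g hg => mem_normalizer_of_map_conj (by rw [← cenIn_map, map_conj_of_mem_normalizer hg])

theorem four_le_cenIn {p : G} (hp : Char.SCP.Hyp 3 p) {T : Subgroup G} (hT : IsInv p T) (h2 : IsPGroup 2 T)
    (hne : T ≠ ⊥) : IsInv p (cenIn T) ∧ 4 ≤ Nat.card (cenIn T) := by
  have hi := hT.of_le (inf_le_left : cenIn T ≤ T) (normalizer_le_cenIn T hT.norm)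
  have h1 : Nat.card (cenIn T) % 3 = 1 := hi.card_mod hp
  have h3 : Nat.card (cenIn T) ≠ 1 := fun e => cenIn_ne_bot h2 hne (Subgroup.card_eq_one.mp e)
  have h4 : 0 < Nat.card (cenIn T) := Nat.card_pos
  exact ⟨hi, by omega⟩

/-- Orders four and above four do not occur together. -/
theorem not_mixed (h : SelfEven x t M S) {M' S' : Subgroup G} (h' : SelfEven x t M' S') (c : Ctx x t)
    (hb : 4 < Nat.card S) (h4 : Nat.card S' = 4) : False := by
  haveI := Fact.mk Nat.prime_two
  obtain ⟨Q, hQ⟩ := h.exists_sylow c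
  have e := (h.sylow_eq_or_four c Q hQ).resolve_right (by omega)
  set R := zpowers t ⊔ S
  obtain ⟨Q', hQ'⟩ := h'.exists_sylow c
  obtain ⟨g, hg⟩ := MulAction.exists_smul_eq G Q' Q
  have hmap : (Q' : Subgroup G).map (MulAut.conj g).toMonoidHom = R := by
    rw [← e, ← hg, Sylow.coe_subgroup_smul]
    rfl
  set V := S'.map (MulAut.conj g).toMonoidHom
  have hV4 : Nat.card V = 4 := (card_map_conj S' g).trans h4
  have hVR : V ≤ R := hmap ▸ Subgroup.map_mono ((le_sup_right : S' ≤ _).trans hQ')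
  have hCV : ∀ a ∈ R, (∀ v ∈ V, a * v = v * a) → a ∈ V := by
    intro a ha hav
    rw [← hmap, mem_map_conj] at ha
    rw [mem_map_conj]
    refine h'.centralizer_le c Q'.isPGroup' hQ' ⟨ha, Subgroup.mem_centralizer_iff.mpr fun v hv => ?_⟩
    have h1 := hav (g * v * g⁻¹) (by rw [mem_map_conj]; simpa [mul_assoc] using hv)
    calc v * (g⁻¹ * a * g) = g⁻¹ * (g * v * g⁻¹ * a) * g := by group
      _ = g⁻¹ * a * g * v := by rw [← h1]; group
  by_cases hVS : V ≤ S
  · obtain ⟨hzi, hz4⟩ := four_le_cenIn c.hyp h.part.inv h.part.pgroup h.ne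
    have hzV : cenIn S ≤ V := fun a ha => hCV a (Subgroup.mem_sup_right ha.1) fun v hv =>
      (Subgroup.mem_centralizer_iff.mp ha.2 v (hVS hv)).symm
    have ez : cenIn S = V := Subgroup.eq_of_le_of_card_ge hzV (by rw [hV4]; exact hz4)
    have hSV : S ≤ V := fun a ha => hCV a (Subgroup.mem_sup_right ha) fun v hv => by
      rw [← ez] at hv
      exact Subgroup.mem_centralizer_iff.mp hv.2 a ha
    have := Nat.le_of_dvd (by norm_num) (hV4 ▸ Subgroup.card_dvd_of_le hSV)
    omega
  · obtain ⟨w, hwV, hwS⟩ := SetLike.not_le_iff_exists.mp hVS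
    have hu : t * w ∈ S := ((h.mem_sup_iff c).mp (hVR hwV)).resolve_left hwS
    have hR2 : IsPGroup 2 R := h.isPGroup_sup c
    have hZV : cenIn R ≤ V := fun a ha => hCV a ha.1 fun v hv =>
      (Subgroup.mem_centralizer_iff.mp ha.2 v (hVR hv)).symm
    have hVSle : Nat.card (V ⊓ S : Subgroup G) ≤ 2 := by
      have hd : Nat.card (V ⊓ S : Subgroup G) ∣ 4 := hV4 ▸ Subgroup.card_dvd_of_le inf_le_left
      have hne : Nat.card (V ⊓ S : Subgroup G) ≠ 4 := fun e' => hwS
        ((Subgroup.eq_of_le_of_card_ge (inf_le_left : V ⊓ S ≤ V) (by rw [e', hV4])).ge hwV).2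
      have := Nat.le_of_dvd (by norm_num) hd
      interval_cases hk : Nat.card (V ⊓ S : Subgroup G) <;> omega
    have hgen : zpowers w ⊔ cenIn R = V := by
      refine Subgroup.eq_of_le_of_card_ge (sup_le (zpowers_le.mpr hwV) hZV) ?_
      set K := zpowers w ⊔ cenIn R
      have hd : Nat.card K ∣ 4 := hV4 ▸ Subgroup.card_dvd_of_le (sup_le (zpowers_le.mpr hwV) hZV)
      have h1 : Nat.card (cenIn R) ≠ 1 := fun e' => cenIn_ne_bot hR2 (fun e'' => h.ne (le_bot_iff.mp
        ((le_sup_right : S ≤ R).trans e''.le))) (Subgroup.card_eq_one.mp e')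
      have h2 : Nat.card (cenIn R) < Nat.card K := by
        by_contra hle
        have he := Subgroup.eq_of_le_of_card_ge (le_sup_right : cenIn R ≤ K) (not_lt.mp hle)
        exact hwS (h.cenIn_le c hR2 le_rfl (he.ge (Subgroup.mem_sup_left (Subgroup.mem_zpowers w))))
      have h0 : 0 < Nat.card (cenIn R) := Nat.card_pos
      have := Nat.le_of_dvd (by norm_num) hd
      rw [hV4]
      interval_cases hk : Nat.card K <;> omega
    have hfew : Nat.card (fixedSub ((MulAut.conj (⟨t * w, hu⟩ : S)).trans h.tau)) ≤ 2 := by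
      refine le_trans ?_ hVSle
      refine Nat.card_le_card_of_injective
        (fun a => (⟨((a : S) : G), ?_, (a : S).2⟩ : (V ⊓ S : Subgroup G))) fun a b e' =>
          Subtype.ext (Subtype.ext (congrArg (fun z : (V ⊓ S : Subgroup G) => (z : G)) e'))
      have h1 : w * ((a : S) : G) * w⁻¹ = (a : S) := by
        have h2 := congrArg Subtype.val a.2
        refine Eq.trans ?_ h2
        show w * ((a : S) : G) * w⁻¹ = t * ((t * w) * (a : S) * (t * w)⁻¹) * t⁻¹
        calc w * ((a : S) : G) * w⁻¹ = (t * t) * w * (a : S) * w⁻¹ * (t * t)⁻¹ := by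
              rw [c.invol, one_mul, inv_one, mul_one]
          _ = _ := by group
      refine hCV _ (Subgroup.mem_sup_right (a : S).2) fun v hv => ?_
      have hle : zpowers w ⊔ cenIn R ≤ centralizer {((a : S) : G)} := by
        refine sup_le (zpowers_le.mpr (Subgroup.mem_centralizer_singleton_iff.mpr
          (mul_inv_eq_iff_eq_mul.mp h1))) fun z hz => ?_
        exact Subgroup.mem_centralizer_singleton_iff.mpr
          (Subgroup.mem_centralizer_iff.mp hz.2 _ (Subgroup.mem_sup_right (a : S).2)).symm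
      exact (Subgroup.mem_centralizer_singleton_iff.mp (hle (hgen.ge hv))).symm
    have := (h.inverted c).card_le_of_few_fixed _ hfew
    omega

/-- A free member of even order excludes members fixed by `t` of even order. -/
theorem not_free (h : SelfEven x t M S) (c : Ctx x t) {M₀ : Subgroup G} (hM₀ : IsMember x M₀)
    (h2 : 2 ∣ Nat.card M₀) (hf : t ∉ normalizer (M₀ : Set G)) : False := by
  haveI := Fact.mk Nat.prime_two
  obtain ⟨S₀, hS₀⟩ := exists_part c.hyp hM₀.inv 2
  have hne : S₀ ≠ ⊥ := hS₀.ne_bot h2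
  obtain ⟨Q₀, hQ₀⟩ := hM₀.part_is_sylow c (IsMember.ne_bot_of_dvd Nat.prime_two h2) hS₀ hne (Or.inr hf)
  obtain ⟨Q, hQ⟩ := h.exists_sylow c
  obtain ⟨g, hg⟩ := MulAction.exists_smul_eq G Q₀ Q
  have hmap : S₀.map (MulAut.conj g).toMonoidHom = (Q : Subgroup G) := by
    rw [← hQ₀, ← hg, Sylow.coe_subgroup_smul]
    rfl
  obtain ⟨hi, h4⟩ := four_le_cenIn c.hyp hS₀.inv hS₀.pgroup hne
  rcases h.sylow_eq_or_four c Q hQ with e | e
  · have h1 := hS₀.inv.card_mod c.hyp
    have h2' := h.part.inv.card_mod c.hyp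
    rw [← card_map_conj S₀ g, hmap, e, h.card_sup c] at h1
    omega
  · have h1 := h.cenIn_card_two c e Q.isPGroup' hQ
    rw [← hmap, cenIn_map, card_map_conj] at h1
    omega

theorem exists_w (h : SelfEven x t M S) (c : Ctx x t) (h4 : Nat.card S = 4) (Q : Sylow 2 G) :
    ∃ (g w : G), w ∈ S.map (MulAut.conj g).toMonoidHom ∧ w ∈ (Q : Subgroup G) ∧
      w ∉ cenIn (Q : Subgroup G) ∧
      zpowers w ⊔ cenIn (Q : Subgroup G) = S.map (MulAut.conj g).toMonoidHom ∧
      (Q : Subgroup G) ⊓ centralizer {w} ≤ S.map (MulAut.conj g).toMonoidHom := by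
  haveI := Fact.mk Nat.prime_two
  obtain ⟨Q', hQ'⟩ := h.exists_sylow c
  obtain ⟨g, hg⟩ := MulAction.exists_smul_eq G Q' Q
  have hmap : (Q' : Subgroup G).map (MulAut.conj g).toMonoidHom = (Q : Subgroup G) := by
    rw [← hg, Sylow.coe_subgroup_smul]
    rfl
  set V := S.map (MulAut.conj g).toMonoidHom
  set Z := cenIn (Q : Subgroup G)
  have hZ : Z = (cenIn (Q' : Subgroup G)).map (MulAut.conj g).toMonoidHom := by
    rw [← cenIn_map, hmap]
  have hZV : Z ≤ V := hZ ▸ Subgroup.map_mono (h.cenIn_le c Q'.isPGroup' hQ')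
  have hV4 : Nat.card V = 4 := (card_map_conj S g).trans h4
  have hZ2 : Nat.card Z = 2 := by
    rw [hZ, card_map_conj, h.cenIn_card_two c h4 Q'.isPGroup' hQ']
  obtain ⟨w, hw, hwZ⟩ : ∃ w ∈ V, w ∉ Z := by
    by_contra hall
    push Not at hall
    have := Nat.le_of_dvd Nat.card_pos (Subgroup.card_dvd_of_le (hall : V ≤ Z))
    omega
  have hgen : zpowers w ⊔ Z = V := by
    refine Subgroup.eq_of_le_of_card_ge (sup_le (zpowers_le.mpr hw) hZV) ?_
    set K := zpowers w ⊔ Z
    have hd : Nat.card K ∣ 4 := hV4 ▸ Subgroup.card_dvd_of_le (sup_le (zpowers_le.mpr hw) hZV)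
    have h2 : Nat.card Z < Nat.card K := by
      by_contra hle
      have he := Subgroup.eq_of_le_of_card_ge (le_sup_right : Z ≤ K) (not_lt.mp hle)
      exact hwZ (he.ge (Subgroup.mem_sup_left (Subgroup.mem_zpowers w)))
    have := Nat.le_of_dvd (by norm_num) hd
    rw [hV4]
    interval_cases hk : Nat.card K <;> omega
  refine ⟨g, w, hw, ?_, hwZ, hgen, fun a ha => ?_⟩
  · exact hmap ▸ Subgroup.map_mono ((le_sup_right : S ≤ _).trans hQ') hw
  · have hle : zpowers w ⊔ Z ≤ centralizer {a} := by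
      refine sup_le (zpowers_le.mpr (Subgroup.mem_centralizer_singleton_iff.mpr
        (Subgroup.mem_centralizer_singleton_iff.mp ha.2).symm)) fun z hz => ?_
      exact Subgroup.mem_centralizer_singleton_iff.mpr
        (Subgroup.mem_centralizer_iff.mp hz.2 a ha.1).symm
    have haQ : a ∈ (Q : Subgroup G) := ha.1
    rw [← hmap, mem_map_conj] at haQ
    rw [mem_map_conj]
    refine h.centralizer_le c Q'.isPGroup' hQ' ⟨haQ, Subgroup.mem_centralizer_iff.mpr fun v hv => ?_⟩
    have h1 := Subgroup.mem_centralizer_singleton_iff.mp (hle (hgen.ge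
      (show g * v * g⁻¹ ∈ V by rw [mem_map_conj]; simpa [mul_assoc] using hv)))
    calc v * (g⁻¹ * a * g) = g⁻¹ * (g * v * g⁻¹ * a) * g := by group
      _ = g⁻¹ * a * g * v := by rw [h1]; group

end SelfEven

/-- At most three members fixed by `t` have Sylow 2-subgroups of order four. -/
theorem card_four_le (c : Ctx x t) (E : Finset (Subgroup G))
    (hE : ∀ M ∈ E, ∃ S, SelfEven x t M S ∧ Nat.card S = 4) : E.card ≤ 3 := by
  classical
  haveI := Fact.mk Nat.prime_two
  rcases E.eq_empty_or_nonempty with rfl | ⟨M₀, hM₀⟩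
  · simp
  choose S hS hS4 using fun M : E => hE M.1 M.2
  obtain ⟨Q⟩ : Nonempty (Sylow 2 G) := inferInstance
  choose g w hw hwQ hwZ hgen hcen using fun M : E => (hS M).exists_w c (hS4 M) Q
  haveI := Fintype.ofFinite (Q : Subgroup G)
  let wQ : E → (Q : Subgroup G) := fun M => ⟨w M, hwQ M⟩
  let C : E → Finset (Q : Subgroup G) := fun M => Finset.univ.filter fun a => IsConj (wQ M) a
  have hdisj : ∀ M ∈ (Finset.univ : Finset E), ∀ M' ∈ (Finset.univ : Finset E), M ≠ M' →
      Disjoint (C M) (C M') := by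
    intro M _ M' _ hne
    rw [Finset.disjoint_left]
    intro a ha ha'
    simp only [C, Finset.mem_filter, Finset.mem_univ, true_and] at ha ha'
    obtain ⟨k, hk⟩ := _root_.isConj_iff.mp (ha.trans ha'.symm)
    refine hne (Subtype.ext ((hS M).eq_of_conj (hS M') c (g := (g M')⁻¹ * ((k : G) * g M)) ?_).symm)
    have hk' : (k : G) * w M * (k : G)⁻¹ = w M' := congrArg Subtype.val hk
    have h1 : ((S M).map (MulAut.conj (g M)).toMonoidHom).map (MulAut.conj (k : G)).toMonoidHom =
        (S M').map (MulAut.conj (g M')).toMonoidHom := by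
      rw [← hgen M, ← hgen M', Subgroup.map_sup, MonoidHom.map_zpowers]
      rw [show (MulAut.conj (k : G)).toMonoidHom (w M) = w M' from hk',
        map_conj_of_mem_normalizer (SelfEven.normalizer_le_cenIn _ (Subgroup.le_normalizer k.2))]
    rw [← map_conj_mul, ← map_conj_mul, h1, map_conj_mul, inv_mul_cancel]
    ext y
    simp
  have hcount : ∀ M : E, Nat.card (Q : Subgroup G) ≤ 4 * (C M).card := by
    intro M
    rw [← Block.card_conj_mul_centralizer (wQ M)]
    have h1 : Nat.card {a // IsConj (wQ M) a} = (C M).card := by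
      rw [Nat.card_eq_fintype_card, Fintype.card_subtype]
    rw [h1, mul_comm]
    refine Nat.mul_le_mul_right _ ?_
    refine le_trans (Nat.card_le_card_of_injective
      (fun a => (⟨((a : (Q : Subgroup G)) : G), hcen M ⟨(a : (Q : Subgroup G)).2,
        Subgroup.mem_centralizer_singleton_iff.mpr (congrArg Subtype.val
          (Subgroup.mem_centralizer_singleton_iff.mp a.2))⟩⟩ :
        (S M).map (MulAut.conj (g M)).toMonoidHom))
      fun a b e => Subtype.ext (Subtype.ext (congrArg Subtype.val e :))) ?_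
    rw [card_map_conj, hS4]
  have hsub : Finset.univ.biUnion C ⊆ Finset.univ.erase (1 : (Q : Subgroup G)) := by
    intro a ha
    simp only [C, Finset.mem_biUnion, Finset.mem_filter, Finset.mem_univ, true_and] at ha
    obtain ⟨M, hM⟩ := ha
    refine Finset.mem_erase.mpr ⟨fun e => hwZ M ?_, Finset.mem_univ _⟩
    have hM' : IsConj (wQ M) 1 := e ▸ hM
    have e2 : wQ M = 1 := isConj_one_left.mp hM'
    have e1 : w M = 1 := congrArg Subtype.val e2
    rw [e1]
    exact one_mem _
  have h2 := Finset.card_le_card hsub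
  rw [Finset.card_biUnion hdisj, Finset.card_erase_of_mem (Finset.mem_univ _), Finset.card_univ,
    ← Nat.card_eq_fintype_card] at h2
  have h3 : Fintype.card E * Nat.card (Q : Subgroup G) ≤ 4 * ∑ M : E, (C M).card := by
    rw [Finset.mul_sum, ← Finset.card_univ, ← smul_eq_mul, ← Finset.sum_const]
    exact Finset.sum_le_sum fun M _ => hcount M
  rw [Fintype.card_coe] at h3
  by_contra hgt
  have h4 : 4 * Nat.card (Q : Subgroup G) ≤ E.card * Nat.card (Q : Subgroup G) :=
    Nat.mul_le_mul_right _ (by omega)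
  have h5 : 0 < Nat.card (Q : Subgroup G) := Nat.card_pos
  omega

/-- A free member meets its conjugate trivially or is half of a local subgroup of shape `O.A₅`. -/
theorem free_pair (c : Ctx x t) {M : Subgroup G} (hM : IsMember x M) (hne : M ≠ ⊥)
    (hf : t ∉ normalizer (M : Set G)) :
    Nat.card M * Nat.card M ≤ Nat.card G ∨
      (2 ∣ Nat.card M ∧ ∃ H : Subgroup G, H ≠ ⊤ ∧ Nat.card H = 15 * Nat.card M) := by
  classical
  set D := M ⊓ flip t M with hDdef
  rcases eq_or_ne D ⊥ with hD1 | hD1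
  · left
    rw [← Nat.card_prod]
    have : ∀ a : flip t M, (a : G) ∈ flip t M := fun a => a.2
    refine le_trans (le_of_eq ?_) (Nat.card_le_card_of_injective
      (fun p : M × flip t M => (p.1 : G) * p.2) ?_)
    · rw [Nat.card_prod, Nat.card_prod, card_map_conj]
    · rintro ⟨a, b⟩ ⟨a', b'⟩ e
      have e' : (a' : G)⁻¹ * a = (b' : G) * (b : G)⁻¹ := by
        calc (a' : G)⁻¹ * a = (a' : G)⁻¹ * ((a : G) * b) * (b : G)⁻¹ := by group
          _ = (b' : G) * (b : G)⁻¹ := by rw [show (a : G) * b = a' * b' from e]; group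
      have h1 : (a' : G)⁻¹ * a ∈ D := Subgroup.mem_inf.mpr ⟨mul_mem (inv_mem (show (a' : G) ∈ M from a'.2)) a.2,
        e' ▸ mul_mem (show (b' : G) ∈ flip t M from b'.2) (inv_mem b.2)⟩
      rw [hD1, Subgroup.mem_bot] at h1
      rw [h1] at e'
      exact Prod.ext (Subtype.ext (inv_mul_eq_one.mp h1).symm) (Subtype.ext (mul_inv_eq_one.mp e'.symm).symm)
  right
  have hflip : flip t M ≠ M := fun e => hf (c.flip_eq_iff.mp e)
  have hMm := c.member_flip hM
  have hnormD : x ∈ normalizer (D : Set G) := mem_normalizer_of_map_conj (by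
    rw [hDdef, Subgroup.map_inf _ _ _ (MulAut.conj x).injective,
      map_conj_of_mem_normalizer hM.inv.norm, map_conj_of_mem_normalizer hMm.inv.norm])
  have hD : IsInv x D := hM.inv.of_le inf_le_left hnormD
  have share : ∀ M'' : Subgroup G, IsMember x M'' → D ≤ M'' → M'' = M ∨ M'' = flip t M := by
    intro M'' h'' hle
    have hDc : Nat.card D ≠ 1 := fun e => hD1 (Subgroup.card_eq_one.mp e)
    obtain ⟨p, hp, hpD⟩ := Nat.exists_prime_and_dvd hDc
    haveI := Fact.mk hp
    have hp1 : p ∣ Nat.card M := hpD.trans (Subgroup.card_dvd_of_le inf_le_left)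
    have hp2 : p ∣ Nat.card M'' := hpD.trans (Subgroup.card_dvd_of_le hle)
    refine hM.eq_or_flip_of_prime h'' c hp1 hp2 ?_
    by_cases hp' : p = 2
    · subst hp'
      refine Or.inr ⟨hf, fun ht => ?_⟩
      obtain ⟨S, hS⟩ := exists_selfEven c h'' hp2 ht
      exact hS.not_free c hM hp1 hf
    · exact Or.inl hp'
  have grow : ∀ A : Subgroup G, IsMember x A → D ≤ A → (A ⊓ normalizer (D : Set G) ≤ D) → A = D := by
    intro A hA hDA hle
    by_contra hne'
    haveI := hA.inv.nilpotent c.hyp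
    have hlt : D.subgroupOf A < ⊤ := lt_top_iff_ne_top.mpr fun e =>
      hne' (le_antisymm (Subgroup.subgroupOf_eq_top.mp e) hDA)
    have h1 := Group.normalizerCondition_of_isNilpotent (G := A) _ hlt
    obtain ⟨a, haN, haD⟩ := SetLike.exists_of_lt h1
    refine haD (hle ⟨a.2, Subgroup.mem_normalizer_iff.mpr fun y => ⟨fun hy => ?_, fun hy => ?_⟩⟩)
    · exact (Subgroup.mem_normalizer_iff.mp haN ⟨y, hDA hy⟩).mp hy
    · have hyA : y ∈ A := by
        have := mul_mem (mul_mem (inv_mem a.2) (hDA hy)) a.2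
        simpa [mul_assoc] using this
      exact (Subgroup.mem_normalizer_iff.mp haN ⟨y, hyA⟩).mpr hy
  have hxN := hD.norm
  have hinfInv : ∀ A : Subgroup G, IsMember x A → IsInv x (A ⊓ normalizer (D : Set G)) := fun A hA =>
    hA.inv.of_le inf_le_left (mem_normalizer_of_map_conj (by
      rw [Subgroup.map_inf _ _ _ (MulAut.conj x).injective, map_conj_of_mem_normalizer hA.inv.norm,
        map_conj_of_mem_normalizer (Subgroup.le_normalizer hxN)]))
  rcases c.local_cases hD hD1 with ⟨O, hO⟩ | ⟨O, W, hO⟩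
  · exfalso
    obtain ⟨M'', hle, h''⟩ := exists_member_ge hO.inv
    have hDO : D ≤ O := hO.uniq D hD Subgroup.le_normalizer
    rcases share M'' h'' (hDO.trans hle) with e | e
    · have h1 := grow _ hMm inf_le_right (fun a ha =>
        ⟨e ▸ hle (hO.uniq _ (hinfInv _ hMm) inf_le_right ha), ha.1⟩)
      have h2 : flip t M ≤ M := h1.trans_le inf_le_left
      exact hflip (hMm.eq_of_le hM.inv h2)
    · have h1 := grow _ hM inf_le_left (fun a ha =>
        ⟨ha.1, e ▸ hle (hO.uniq _ (hinfInv _ hM) inf_le_right ha)⟩)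
      have h2 : M ≤ flip t M := h1.trans_le inf_le_right
      exact hflip (hM.eq_of_le hMm.inv h2).symm
  · set H := normalizer (D : Set G) with hH
    have hDO : D ≤ O := hO.normal_le D hD Subgroup.le_normalizer le_rfl
    have hO1 : O ≠ ⊥ := fun e => hD1 (le_bot_iff.mp (e ▸ hDO))
    obtain ⟨M₀, hle0, h0⟩ := exists_member_ge (hO.part 0).1
    obtain ⟨M₁, hle1, h1⟩ := exists_member_ge (hO.part 1).1
    have e0 := share M₀ h0 (hDO.trans ((hO.part 0).2.2.1.trans hle0))
    have e1 := share M₁ h1 (hDO.trans ((hO.part 1).2.2.1.trans hle1))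
    have hne01 : M₀ ≠ M₁ := by
      intro e
      rcases hO.cover _ (hinfInv M₀ h0) inf_le_right with h | h
      · exact hO.ne (Subgroup.eq_of_le_of_card_ge
          ((le_inf (e ▸ hle1) (hO.part 1).2.1).trans h)
          (by rw [(hO.part 0).2.2.2, (hO.part 1).2.2.2])).symm
      · exact hO.ne (Subgroup.eq_of_le_of_card_ge
          ((le_inf hle0 (hO.part 0).2.1).trans h)
          (by rw [(hO.part 0).2.2.2, (hO.part 1).2.2.2]))
    have hOM : O ≤ M ∧ O ≤ flip t M := by
      have k0 := (hO.part 0).2.2.1.trans hle0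
      have k1 := (hO.part 1).2.2.1.trans hle1
      rcases e0 with rfl | rfl <;> rcases e1 with rfl | rfl
      · exact absurd rfl hne01
      · exact ⟨k0, k1⟩
      · exact ⟨k1, k0⟩
      · exact absurd rfl hne01
    have hDeq : D = O := le_antisymm hDO (le_inf hOM.1 hOM.2)
    have hMH : M ≤ H := by
      intro m hm
      rw [hH, hDeq]
      have hconj : ∀ m ∈ M, ∀ o ∈ O, m * o * m⁻¹ ∈ O := by
        intro m hm o ho
        have hcz : ⁅m, o⁆ ∈ centralizer (O : Set G) := Subgroup.mem_centralizer_iff.mpr fun q hq =>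
          (hM.inv.classTwo c.hyp hm (hOM.1 ho) (hOM.1 hq)).eq.symm
        have hcO : ⁅m, o⁆ ∈ O := hO.cent hO1
          ⟨by rw [hH, hDeq]; exact Subgroup.centralizer_le_normalizer _ hcz, hcz⟩
        have := mul_mem hcO ho
        rwa [commutatorElement_def, inv_mul_cancel_right] at this
      rw [Subgroup.mem_normalizer_iff]
      intro o
      refine ⟨hconj m hm o, fun ho => ?_⟩
      have := hconj m⁻¹ (inv_mem hm) _ ho
      simpa [mul_assoc] using this
    obtain ⟨i, hi⟩ : ∃ i, M ≤ W i := (hO.cover M hM.inv hMH).elim (⟨0, ·⟩) (⟨1, ·⟩)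
    have e := hM.eq_of_le (hO.part i).1 hi
    have hMc : Nat.card M = 4 * Nat.card O := e ▸ (hO.part i).2.2.2
    refine ⟨⟨2 * Nat.card O, by omega⟩, H, c.normalizer_ne_top hD hD1, ?_⟩
    rw [hO.card, hMc]; ring

end Cfsg.Agent.Fus.SCThree
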