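import Mathlib
import Cfsg.Agent.Lib.Fus.SelfCentThree.TwoPart
import Cfsg.Agent.Lib.Fus.SelfCentThree.Chars
import Cfsg.Agent.Lib.Fus.SmallSimple
import Cfsg.Agent.S0496

/-!
The counting argument: a simple group with a self-centralizing element of order three and known proper
subgroups has order `60` or `168`.
-/

set_option autoImplicit false
set_option linter.style.haveILetI false
set_option linter.unusedSectionVars false
set_option linter.unusedVariables false

namespace Cfsg.Agent.Fus.SCThree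

open Subgroup

universe u

variable {G : Type u} [Group G] [Finite G] {x t : G}

theorem pair_mem_inv (c : Ctx x t) {u : G} (hu : IsConj x u) (hv : IsConj x (u⁻¹ * x)) :
    ∃ A : Subgroup G, IsInv x A ∧ u * x ∈ A := by
  haveI := Fact.mk Nat.prime_three
  have hx3 := pow_three_eq c.hyp
  have h3 : ∀ w, IsConj x w → w * w * w = 1 := fun w hw => by
    obtain ⟨g, rfl⟩ := _root_.isConj_iff.mp hw
    rw [show g * x * g⁻¹ * (g * x * g⁻¹) * (g * x * g⁻¹) = g * (x ^ 3) * g⁻¹ by
      simp only [pow_succ, pow_zero]; group, hx3]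
    group
  set a := u * x with ha
  have hu' : u = a * x⁻¹ := by rw [ha, mul_inv_cancel_right]
  set a₁ := x * a * x⁻¹ with ha₁
  set a₂ := x * a₁ * x⁻¹ with ha₂
  have hxinv : x * x = x⁻¹ := by
    refine (inv_eq_of_mul_eq_one_right ?_).symm
    rw [← pow_three]; exact hx3
  have e1 : a * a₂ * a₁ = 1 := by
    rw [← h3 u hu, hu', ha₂, ha₁]
    calc a * (x * (x * a * x⁻¹) * x⁻¹) * (x * a * x⁻¹) = a * (x * x) * a * x⁻¹ * a * x⁻¹ := by group
      _ = _ := by rw [hxinv]; group
  have e2 : a₁ * a₂ * a = 1 := by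
    have h4 := h3 _ hv
    rw [hu', mul_inv_rev, inv_inv] at h4
    have h5 : a⁻¹ * (x * x) * a⁻¹ * (x * x) * a⁻¹ * (x * x) = 1 := by
      calc _ = x⁻¹ * ((x * a⁻¹ * x) * (x * a⁻¹ * x) * (x * a⁻¹ * x)) * x := by group
        _ = 1 := by rw [h4]; group
    rw [hxinv] at h5
    have h6 := congrArg Inv.inv h5
    rw [inv_one] at h6
    rw [ha₂, ha₁]
    calc x * a * x⁻¹ * (x * (x * a * x⁻¹) * x⁻¹) * a = x * a * x * a * (x * x)⁻¹ * a := by group
      _ = x * a * x * a * x * a := by rw [hxinv, inv_inv]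
      _ = _ := by rw [← h6]; group
  have hcomm : Commute a a₂ := by
    have f1 : a * a₂ = a₁⁻¹ := eq_inv_of_mul_eq_one_left e1
    have f2 : a₂ * a = a₁⁻¹ := eq_inv_of_mul_eq_one_right (by rw [← mul_assoc]; exact e2)
    exact f1.trans f2.symm
  let A := closure ({a, a₂} : Set G)
  have ha_mem : a ∈ A := subset_closure (Or.inl rfl)
  have ha₂_mem : a₂ ∈ A := subset_closure (Or.inr rfl)
  have ha₁_mem : a₁ ∈ A := by
    rw [eq_inv_of_mul_eq_one_right e1]
    exact inv_mem (mul_mem ha_mem ha₂_mem)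
  haveI : IsMulCommutative A := by
    refine isMulCommutative_closure ?_
    rintro p (rfl | rfl) q (rfl | rfl)
    exacts [rfl, hcomm.eq, hcomm.eq.symm, rfl]
  have hnorm : x ∈ normalizer (A : Set G) := by
    refine mem_normalizer_of_map_conj (Subgroup.eq_of_le_of_card_ge ?_ (card_map_conj A x).ge)
    rw [MonoidHom.map_closure, closure_le]
    rintro _ ⟨p, (rfl | rfl), rfl⟩
    · exact ha₁_mem
    · show x * a₂ * x⁻¹ ∈ A
      rw [ha₂, ha₁, show x * (x * (x * a * x⁻¹) * x⁻¹) * x⁻¹ = x ^ 3 * a * (x ^ 3)⁻¹ by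
        simp only [pow_succ, pow_zero]; group, hx3, one_mul, inv_one, mul_one]
      exact ha_mem
  refine ⟨A, ⟨hnorm, fun hd => ?_⟩, ha_mem⟩
  let W : Subgroup G :=
    { carrier := {y | y ∈ A ∧ y ^ 3 = 1}
      one_mem' := ⟨one_mem _, one_pow 3⟩
      mul_mem' := fun {p q} hp hq => ⟨mul_mem hp.1 hq.1, by
        have hc : Commute p q := congrArg Subtype.val (mul_comm' (⟨p, hp.1⟩ : A) ⟨q, hq.1⟩)
        rw [hc.mul_pow, hp.2, hq.2, mul_one]⟩
      inv_mem' := fun {p} hp => ⟨inv_mem hp.1, by rw [inv_pow, hp.2, inv_one]⟩ }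
  have hW3 : IsPGroup 3 W := fun y => ⟨1, Subtype.ext (by simpa using y.2.2)⟩
  have hxW : zpowers x ≤ normalizer (W : Set G) := zpowers_le.mpr (Subgroup.mem_normalizer_iff.mpr
    fun y => and_congr (Subgroup.mem_normalizer_iff.mp hnorm y) (by
      rw [conj_pow]; exact ⟨fun e => by rw [e, mul_one, mul_inv_cancel], fun e => by simpa using e⟩))
  have hX3 : IsPGroup 3 (zpowers x) := IsPGroup.of_card (n := 1) (by rw [Nat.card_zpowers, c.hyp.ord, pow_one])
  have hsup := hX3.to_sup_of_normal_right' hW3 hxW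
  obtain ⟨Q, hQ⟩ := hsup.exists_le_sylow
  have hQc : Nat.card (Q : Subgroup G) = 3 := by
    rw [Q.card_eq_multiplicity, Char.SCP.fac c.hyp, pow_one]
  have hQx : zpowers x = (Q : Subgroup G) := Subgroup.eq_of_le_of_card_ge (le_sup_left.trans hQ) (by
    rw [hQc, Nat.card_zpowers, c.hyp.ord])
  obtain ⟨⟨y, hy⟩, hyo⟩ := exists_prime_orderOf_dvd_card' (G := A) 3 hd
  rw [Subgroup.orderOf_mk] at hyo
  have hyW : y ∈ W := ⟨hy, hyo ▸ pow_orderOf_eq_one y⟩
  have hyX : y ∈ zpowers x := hQx ▸ hQ (Subgroup.mem_sup_right hyW)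
  have hy1 : y ≠ 1 := fun e => by rw [e, orderOf_one] at hyo; omega
  have hxA : x ∈ A := by
    have h1 := Char.SCP.zpowers_eq_of_mem c.hyp hyX hy1
    exact zpowers_le.mpr hy (h1 ▸ Subgroup.mem_zpowers x)
  have hax : a ∈ zpowers x := Char.SCP.mem_P_of_comm c.hyp
    (congrArg Subtype.val (mul_comm' (⟨a, ha_mem⟩ : A) ⟨x, hxA⟩))
  have hne1 : ¬ IsConj x 1 := fun e => x_ne_one c.hyp (isConj_one_left.mp e)
  rcases eq_of_mem_zpowers c.hyp hax with e | e | e
  · refine x_ne_one c.hyp ?_
    have : A = ⊥ := by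
      rw [closure_eq_bot_iff]
      rintro p (rfl | rfl)
      · exact e
      · show x * (x * a * x⁻¹) * x⁻¹ = 1
        rw [e]; group
    rw [this, Subgroup.mem_bot] at hxA
    exact hxA
  · refine hne1 ?_
    rw [hu', e, mul_inv_cancel] at hu
    exact hu
  · refine hne1 ?_
    rw [hu', e, mul_inv_cancel_right] at hv
    rwa [inv_mul_cancel] at hv

theorem card_lt_sum (c : Ctx x t) (Mem : Finset (Subgroup G))
    (hMem : ∀ M, M ∈ Mem ↔ IsMember x M) : Nat.card G < 9 * ∑ M ∈ Mem, Nat.card M := by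
  classical
  cases nonempty_fintype G
  obtain ⟨n, hn, hP⟩ := pair_count c.hyp c.six (_root_.isConj_iff.mpr ⟨t, c.inverts⟩)
  set P := {u : G // IsConj x u ∧ IsConj x (u⁻¹ * x)}
  have hPle : Nat.card P ≤ ∑ M ∈ Mem, Nat.card M := by
    let F := Mem.biUnion fun M => Finset.univ.filter fun g => g ∈ M
    have h1 : ∀ u : P, u.1 * x ∈ F := fun u => by
      obtain ⟨A, hA, ha⟩ := pair_mem_inv c u.2.1 u.2.2
      obtain ⟨M, hle, hM⟩ := exists_member_ge hA
      exact Finset.mem_biUnion.mpr ⟨M, (hMem M).mpr hM, Finset.mem_filter.mpr ⟨Finset.mem_univ _, hle ha⟩⟩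
    calc Nat.card P ≤ Nat.card F := Nat.card_le_card_of_injective (fun u => (⟨u.1 * x, h1 u⟩ : F))
          fun u v e => Subtype.ext (mul_right_cancel (congrArg Subtype.val e))
      _ = F.card := Nat.card_eq_finsetCard F
      _ ≤ _ := Finset.card_biUnion_le.trans (le_of_eq (Finset.sum_congr rfl fun M _ => by
          rw [Nat.card_eq_fintype_card, Fintype.card_subtype]))
  have hG : 0 < Nat.card G := Nat.card_pos
  have h2 : Nat.card G < 9 * Nat.card P := by
    by_contra hle
    have := Nat.mul_le_mul_right n (not_lt.mp hle)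
    rw [hP, mul_add, mul_one] at this
    omega
  omega

/-- The order is not `660`, `1092` or `1680`. -/
theorem card_ne_of_equation (c : Ctx x t) :
    Nat.card G ≠ 660 ∧ Nat.card G ≠ 1092 ∧ Nat.card G ≠ 1680 := by
  cases nonempty_fintype G
  obtain ⟨n, f, k, D, hn, hf, hk, hdvd, heq⟩ := involution_equation c.hyp c.six c.invol c.ne_one c.inverts
  have key : IsSquare (3 * Nat.card G * n) := by
    have h1 : (3 * k * n) ^ 2 = 3 * Nat.card G * n * D.natAbs ^ 2 := by
      zify
      rw [sq_abs]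
      linear_combination -(3 * (n : ℤ)) * heq
    have hD : D.natAbs ≠ 0 := fun e => by
      rw [e] at h1
      have : 0 < n := by rw [hn]; positivity
      simp only [ne_eq, OfNat.ofNat_ne_zero, not_false_eq_true, zero_pow, mul_zero] at h1
      have : 0 < (3 * k * n) ^ 2 := by positivity
      omega
    obtain ⟨q, hq⟩ := (Nat.pow_dvd_pow_iff two_ne_zero).mp (Dvd.intro_left _ h1.symm)
    refine ⟨q, Nat.eq_of_mul_eq_mul_right (Nat.pos_of_ne_zero (pow_ne_zero 2 hD)) ?_⟩
    rw [← h1, hq]; ring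
  have check : ∀ N ∈ [660, 1092, 1680], ∀ f < 41, 0 < f → f * (f + 1) ∣ N →
      Nat.sqrt (3 * N * (f * (f + 1))) * Nat.sqrt (3 * N * (f * (f + 1))) ≠ 3 * N * (f * (f + 1)) := by
    decide +kernel
  have hsq : ∀ N ∈ [660, 1092, 1680], Nat.card G ≠ N := by
    intro N hN e
    have hle : f * (f + 1) ≤ N := Nat.le_of_dvd (e ▸ Nat.card_pos) (by rw [← hn, ← e]; exact hdvd)
    have hN2 : N ≤ 1680 := by fin_cases hN <;> norm_num
    have hf41 : f < 41 := by nlinarith
    refine check N hN f hf41 hf (by rw [← hn, ← e]; exact hdvd) ?_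
    rw [← hn, ← e]
    exact Nat.exists_mul_self _ |>.mp (key.imp fun r hr => hr.symm)
  exact ⟨hsq 660 (by simp), hsq 1092 (by simp), hsq 1680 (by simp)⟩

theorem nine_not_dvd (c : Ctx x t) : ¬ 9 ∣ Nat.card G := by
  haveI := Fact.mk Nat.prime_three
  intro e
  have := (Nat.prime_three.pow_dvd_iff_le_factorization (k := 2) Nat.card_pos.ne').mp e
  rw [Char.SCP.fac c.hyp] at this
  omega

theorem index_bound (c : Ctx x t) (hbig : 1092 < Nat.card G) {H : Subgroup G} (hH : H ≠ ⊤) :
    8 * Nat.card H ≤ Nat.card G := by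
  haveI := c.simple
  rw [← H.card_mul_index, mul_comm 8]
  refine Nat.mul_le_mul_left _ ?_
  by_contra hlt
  have h1 := (card_dvd_factorial_index hH).trans (Nat.factorial_dvd_factorial (show H.index ≤ 7 by omega))
  rw [show Nat.factorial 7 = 5040 by decide] at h1
  have h9 := nine_not_dvd c
  have h80 := (card_ne_of_equation c).2.2
  obtain ⟨k, hk⟩ := h1
  have : k ≤ 4 := by
    by_contra h5
    have : 1093 * 5 ≤ Nat.card G * k := Nat.mul_le_mul (by omega) (by omega)
    omega
  interval_cases k <;> omega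

theorem prod_dvd_of_coprime' {ι : Type*} (s : Finset ι) (f : ι → ℕ) {N : ℕ}
    (hd : ∀ i ∈ s, f i ∣ N) (hc : ∀ i ∈ s, ∀ j ∈ s, i ≠ j → (f i).Coprime (f j)) :
    ∏ i ∈ s, f i ∣ N := by
  classical
  induction s using Finset.induction with
  | empty => simp
  | insert a s ha ih =>
    rw [Finset.prod_insert ha]
    refine Nat.Coprime.mul_dvd_of_dvd_of_dvd ?_ (hd a (Finset.mem_insert_self a s))
      (ih (fun i hi => hd i (Finset.mem_insert_of_mem hi))
        fun i hi j hj => hc i (Finset.mem_insert_of_mem hi) j (Finset.mem_insert_of_mem hj))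
    exact Nat.Coprime.prod_right fun i hi => hc a (Finset.mem_insert_self a s) i
      (Finset.mem_insert_of_mem hi) fun e => ha (e ▸ hi)

theorem seven_sum_le_prod {s : Finset ℕ} (h7 : ∀ v ∈ s, 7 ≤ v) (h2 : 2 ≤ s.card) :
    7 * ∑ v ∈ s, v ≤ 2 * ∏ v ∈ s, v := by
  induction s using Finset.induction with
  | empty => simp at h2
  | insert a s ha ih =>
    rw [Finset.sum_insert ha, Finset.prod_insert ha]
    rw [Finset.card_insert_of_notMem ha] at h2
    have ha7 := h7 a (Finset.mem_insert_self a s)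
    by_cases h3 : 2 ≤ s.card
    · have h4 := ih (fun v hv => h7 v (Finset.mem_insert_of_mem hv)) h3
      obtain ⟨b, hb⟩ := Finset.card_pos.mp (show 0 < s.card by omega)
      have hb7 : 7 ≤ ∏ v ∈ s, v := le_trans (h7 b (Finset.mem_insert_of_mem hb))
        (Finset.single_le_prod' (fun v hv => le_trans (by norm_num) (h7 v (Finset.mem_insert_of_mem hv))) hb)
      nlinarith
    · obtain ⟨b, rfl⟩ := Finset.card_eq_one.mp (show s.card = 1 by omega)
      have hb7 := h7 b (by simp)
      simp only [Finset.sum_singleton, Finset.prod_singleton]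
      nlinarith

theorem sum_le_card_add_prod {ι : Type*} (s : Finset ι) (o : ι → ℕ) (h : ∀ i ∈ s, 1 ≤ o i) :
    (∑ i ∈ s, o i) + 1 ≤ s.card + ∏ i ∈ s, o i := by
  classical
  induction s using Finset.induction with
  | empty => simp
  | insert a s ha ih =>
    rw [Finset.sum_insert ha, Finset.prod_insert ha, Finset.card_insert_of_notMem ha]
    have h1 := ih fun i hi => h i (Finset.mem_insert_of_mem hi)
    have h2 := h a (Finset.mem_insert_self a s)
    have h3 : 1 ≤ ∏ i ∈ s, o i := Finset.one_le_prod' fun i hi => h i (Finset.mem_insert_of_mem hi)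
    nlinarith

theorem pair_product_bound {g m v : ℕ} (hg : 1092 < g) (hm : m * m ≤ g) (hv : v * v ≤ g)
    (h : 3 * (m * v) ≤ g) : 18 * (m + v) ≤ g := by
  nlinarith

theorem sq_bound {g m : ℕ} (hg : 1092 < g) (hm : m * m ≤ g) : 33 * m ≤ g := by nlinarith

theorem card_le (c : Ctx x t) : Nat.card G ≤ 1092 := by
  classical
  cases nonempty_fintype G
  by_contra hbig
  push Not at hbig
  set g := Nat.card G with hg
  let Mem : Finset (Subgroup G) := Finset.univ.filter (IsMember x)
  have hMem : ∀ M, M ∈ Mem ↔ IsMember x M := fun M => by simp [Mem]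
  have hT := card_lt_sum c Mem hMem
  have hne : ∀ M ∈ Mem, M ≠ ⊥ := by
    intro M hM e
    have hall : Mem = {M} := by
      refine Finset.eq_singleton_iff_unique_mem.mpr ⟨hM, fun M' hM' => ?_⟩
      exact (((hMem M).mp hM).eq_of_le ((hMem M').mp hM').inv (e ▸ bot_le)).symm
    rw [hall, Finset.sum_singleton, e, Subgroup.card_bot, ← hg] at hT
    omega
  have h3g : 3 ∣ g := by
    haveI := Fact.mk Nat.prime_three
    exact Char.SCP.dvd_card c.hyp
  have h4g : 4 ∣ g := by
    haveI := c.simple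
    have h2g : 2 ∣ g := orderOf_eq_prime (p := 2) (by rw [pow_two]; exact c.invol) c.ne_one ▸
      orderOf_dvd_natCard t
    rcases even_simple_dvd c.not_comm (even_iff_two_dvd.mpr h2g) with e | e | e <;> omega
  have hflip : ∀ M ∈ Mem, flip t M ∈ Mem := fun M hM =>
    (hMem _).mpr (c.member_flip ((hMem M).mp hM))
  have hselfb : ∀ M ∈ Mem, t ∈ normalizer (M : Set G) → 48 * Nat.card M ≤ g := fun M hM ht => by
    have h := (hMem M).mp hM
    have h1 := index_bound c hbig (c.normalizer_ne_top h.inv (hne M hM))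
    rw [h.card_normalizer_self c (hne M hM) ht] at h1
    omega
  -- members of odd order
  set Od := Mem.filter fun M : Subgroup G => ¬ 2 ∣ Nat.card M with hOd
  set Ev := Mem.filter fun M : Subgroup G => 2 ∣ Nat.card M with hEv
  set To := ∑ M ∈ Od, Nat.card M
  set Te := ∑ M ∈ Ev, Nat.card M
  have hsplit : ∑ M ∈ Mem, Nat.card M = Te + To := (Finset.sum_filter_add_sum_filter_not _ _ _).symm
  have hodd7 : ∀ M ∈ Od, 7 ≤ Nat.card M := by
    intro M hM
    obtain ⟨hM1, hM2⟩ := Finset.mem_filter.mp hM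
    have h1 := ((hMem M).mp hM1).inv.card_mod c.hyp
    have h2 : Nat.card M ≠ 1 := fun e => hne M hM1 (Subgroup.card_eq_one.mp e)
    omega
  have hodd_share : ∀ M ∈ Mem, ∀ M' ∈ Mem, ∀ p : ℕ, p.Prime → p ≠ 2 → p ∣ Nat.card M →
      p ∣ Nat.card M' → M' = M ∨ M' = flip t M := fun M hM M' hM' p hp hp2 h h' =>
    haveI := Fact.mk hp
    ((hMem M).mp hM).eq_or_flip_of_prime ((hMem M').mp hM') c h h' (Or.inl hp2)
  have hsame : ∀ M ∈ Od, ∀ M' ∈ Od, Nat.card M' = Nat.card M → M' = M ∨ M' = flip t M := by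
    intro M hM M' hM' e
    obtain ⟨p, hp, hpd⟩ := Nat.exists_prime_and_dvd (show Nat.card M ≠ 1 by have := hodd7 M hM; omega)
    refine hodd_share M (Finset.mem_filter.mp hM).1 M' (Finset.mem_filter.mp hM').1 p hp ?_ hpd (e ▸ hpd)
    rintro rfl
    exact (Finset.mem_filter.mp hM).2 hpd
  set V := Od.image fun M : Subgroup G => Nat.card M
  have hTo : To ≤ 2 * ∑ v ∈ V, v := by
    rw [Finset.mul_sum]
    refine le_of_eq_of_le (Finset.sum_fiberwise_of_maps_to (t := V) (g := fun M : Subgroup G => Nat.card M)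
      (fun M hM => Finset.mem_image_of_mem _ hM) (fun M : Subgroup G => Nat.card M)).symm ?_
    refine Finset.sum_le_sum fun v hv => ?_
    obtain ⟨M, hM, rfl⟩ := Finset.mem_image.mp hv
    rw [Finset.sum_congr rfl (g := fun _ => Nat.card M) fun M' hM' => (Finset.mem_filter.mp hM').2,
      Finset.sum_const, smul_eq_mul]
    refine Nat.mul_le_mul_right _ (le_trans (Finset.card_le_card (t := {M, flip t M}) fun M' hM' => ?_)
      Finset.card_le_two)
    obtain ⟨h1, h2⟩ := Finset.mem_filter.mp hM'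
    rcases hsame M hM M' h1 h2 with e | e <;> simp [e]
  have hV7 : ∀ v ∈ V, 7 ≤ v := fun v hv => by
    obtain ⟨M, hM, rfl⟩ := Finset.mem_image.mp hv
    exact hodd7 M hM
  have hVdvd : ∀ v ∈ V, v ∣ g := fun v hv => by
    obtain ⟨M, hM, rfl⟩ := Finset.mem_image.mp hv
    exact Subgroup.card_subgroup_dvd_card M
  have hVodd : ∀ v ∈ V, ¬ 2 ∣ v ∧ ¬ 3 ∣ v := fun v hv => by
    obtain ⟨M, hM, rfl⟩ := Finset.mem_image.mp hv
    exact ⟨(Finset.mem_filter.mp hM).2, ((hMem M).mp (Finset.mem_filter.mp hM).1).inv.not_dvd⟩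
  have hVcop : ∀ v ∈ V, ∀ w ∈ V, v ≠ w → v.Coprime w := by
    intro v hv w hw hvw
    obtain ⟨M, hM, rfl⟩ := Finset.mem_image.mp hv
    obtain ⟨M', hM', rfl⟩ := Finset.mem_image.mp hw
    refine Nat.coprime_of_dvd fun p hp h1 h2 => ?_
    have hp2 : p ≠ 2 := by rintro rfl; exact (Finset.mem_filter.mp hM).2 h1
    rcases hodd_share M (Finset.mem_filter.mp hM).1 M' (Finset.mem_filter.mp hM').1 p hp hp2 h1 h2 with e | e
    · exact hvw (by rw [e])
    · exact hvw (by rw [e, card_map_conj])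
  have hPdvd : ∏ v ∈ V, v ∣ g := prod_dvd_of_coprime' V id hVdvd hVcop
  have hPcop : ∀ k : ℕ, (∀ v ∈ V, k.Coprime v) → k ∣ g → k * ∏ v ∈ V, v ≤ g := fun k hk hkd =>
    Nat.le_of_dvd Nat.card_pos ((Nat.Coprime.prod_right hk).mul_dvd_of_dvd_of_dvd hkd hPdvd)
  have h12 : 12 * ∏ v ∈ V, v ≤ g := hPcop 12 (fun v hv => by
    obtain ⟨h2, h3⟩ := hVodd v hv
    have a1 : Nat.Coprime 4 v := (Nat.prime_two.coprime_iff_not_dvd.mpr h2).pow_left 2
    exact a1.mul_left (Nat.prime_three.coprime_iff_not_dvd.mpr h3))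
    (Nat.Coprime.mul_dvd_of_dvd_of_dvd (by norm_num) h4g h3g)
  -- the shape of the odd part
  have hoddcases : To = 0 ∨ (∃ v, V = {v} ∧ To ≤ 2 * v ∧ v * v ≤ g) ∨ 48 * To ≤ g ∨ 21 * To ≤ g := by
    rcases lt_or_ge V.card 2 with hlt | hge
    · rcases Od.eq_empty_or_nonempty with e | ⟨M, hM⟩
      · left; simp [To, e]
      have hVM : V = {Nat.card M} := (Finset.eq_singleton_iff_unique_mem.mpr
        ⟨Finset.mem_image_of_mem _ hM, fun w hw => Finset.card_le_one.mp (by omega) w hw _
          (Finset.mem_image_of_mem _ hM)⟩)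
      obtain ⟨hM1, hM2⟩ := Finset.mem_filter.mp hM
      rw [hVM, Finset.sum_singleton] at hTo
      by_cases ht : t ∈ normalizer (M : Set G)
      · right; right; left
        have : To = Nat.card M := by
          have hOdM : Od = {M} := Finset.eq_singleton_iff_unique_mem.mpr ⟨hM, fun M' hM' => by
            have hw : Nat.card M' ∈ V := Finset.mem_image_of_mem _ hM'
            rw [hVM, Finset.mem_singleton] at hw
            rcases hsame M hM M' hM' hw with e | e
            · exact e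
            · rw [e, c.flip_eq_iff.mpr ht]⟩
          simp [To, hOdM]
        have := hselfb M hM1 ht
        omega
      · right; left
        refine ⟨_, hVM, hTo, ?_⟩
        exact (free_pair c ((hMem M).mp hM1) (hne M hM1) ht).resolve_right fun h => hM2 h.1
    · right; right; right
      have := seven_sum_le_prod hV7 hge
      omega
  have hTo2 : 33 * To ≤ 2 * g := by
    rcases hoddcases with e | ⟨v, -, h1, h2⟩ | e | e
    · omega
    · have := sq_bound hbig h2
      omega
    · omega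
    · omega
  rw [hsplit, ← hg] at hT
  rcases Ev.eq_empty_or_nonempty with e | ⟨M, hM⟩
  · have : Te = 0 := by simp [Te, e]
    omega
  obtain ⟨hM1, hM2⟩ := Finset.mem_filter.mp hM
  by_cases hfree : ∃ M ∈ Ev, t ∉ normalizer (M : Set G)
  · obtain ⟨M, hM, hf⟩ := hfree
    obtain ⟨hM1, hM2⟩ := Finset.mem_filter.mp hM
    haveI := Fact.mk Nat.prime_two
    have hTe : Te ≤ 2 * Nat.card M := by
      have hsub : Ev ⊆ {M, flip t M} := by
        intro M' hM'
        obtain ⟨h1, h2⟩ := Finset.mem_filter.mp hM'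
        have hf' : t ∉ normalizer (M' : Set G) := fun ht => by
          obtain ⟨S, hS⟩ := exists_selfEven c ((hMem M').mp h1) h2 ht
          exact hS.not_free c ((hMem M).mp hM1) hM2 hf
        rcases ((hMem M).mp hM1).eq_or_flip_of_prime ((hMem M').mp h1) c hM2 h2 (Or.inr ⟨hf, hf'⟩) with e | e <;>
          simp [e]
      refine (Finset.sum_le_sum_of_subset hsub).trans ?_
      refine (Finset.sum_le_card_nsmul _ _ (Nat.card M) fun M' hM' => ?_).trans ?_
      · rcases Finset.mem_insert.mp hM' with e | e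
        · rw [e]
        · rw [Finset.mem_singleton.mp e, card_map_conj]
      · rw [smul_eq_mul]
        exact Nat.mul_le_mul_right _ Finset.card_le_two
    rcases free_pair c ((hMem M).mp hM1) (hne M hM1) hf with hTI | ⟨-, H, hH, hHc⟩
    · have h33 := sq_bound hbig hTI
      rcases hoddcases with e | ⟨v, hV, h1, h2⟩ | e | e
      · omega
      · have hv : v ∈ V := by rw [hV]; exact Finset.mem_singleton_self v
        obtain ⟨M', hM', rfl⟩ := Finset.mem_image.mp hv
        have hcop : Nat.Coprime (3 * Nat.card M) (Nat.card M') := by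
          refine Nat.Coprime.mul_left (Nat.prime_three.coprime_iff_not_dvd.mpr (hVodd _ hv).2) ?_
          refine Nat.coprime_of_dvd fun p hp a b => ?_
          have hp2 : p ≠ 2 := by rintro rfl; exact (hVodd _ hv).1 b
          rcases hodd_share M hM1 M' (Finset.mem_filter.mp hM').1 p hp hp2 a b with e | e
          · exact (hVodd _ hv).1 (by rw [e]; exact hM2)
          · exact (hVodd _ hv).1 (by rw [e, card_map_conj]; exact hM2)
        have hd3 : 3 * Nat.card M ∣ g := (Nat.prime_three.coprime_iff_not_dvd.mpr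
          ((hMem M).mp hM1).inv.not_dvd).mul_dvd_of_dvd_of_dvd h3g (Subgroup.card_subgroup_dvd_card M)
        have hle := Nat.le_of_dvd Nat.card_pos
          (hcop.mul_dvd_of_dvd_of_dvd hd3 (Subgroup.card_subgroup_dvd_card M'))
        have := pair_product_bound hbig hTI h2 (by rw [← mul_assoc]; exact hle)
        omega
      · omega
      · omega
    · have := index_bound c hbig hH
      rw [hHc] at this
      omega
  push Not at hfree
  have hself : ∀ M ∈ Ev, ∃ S, SelfEven x t M S := fun M hM =>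
    exists_selfEven c ((hMem M).mp (Finset.mem_filter.mp hM).1) (Finset.mem_filter.mp hM).2 (hfree M hM)
  by_cases hbigS : ∃ M ∈ Ev, ∃ S, SelfEven x t M S ∧ 4 < Nat.card S
  · obtain ⟨M, hM, S, hS, hb⟩ := hbigS
    have hone : Ev = {M} := Finset.eq_singleton_iff_unique_mem.mpr ⟨hM, fun M' hM' => by
      obtain ⟨S', hS'⟩ := hself M' hM'
      rcases Nat.lt_or_ge 4 (Nat.card S') with h | h
      · exact hS.eq_of_big hS' c hb h
      · exact (hS.not_mixed hS' c hb (le_antisymm h (hS'.card_ge c))).elim⟩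
    have h1 : Te = Nat.card M := by simp [Te, hone]
    have h2 := hselfb M (Finset.mem_filter.mp hM).1 hS.fix
    omega
  push Not at hbigS
  have hfour : ∀ M ∈ Ev, ∃ S, SelfEven x t M S ∧ Nat.card S = 4 := fun M hM => by
    obtain ⟨S, hS⟩ := hself M hM
    exact ⟨S, hS, le_antisymm (hbigS M hM S hS) (hS.card_ge c)⟩
  have hK := card_four_le c Ev hfour
  have hTe1 : 48 * Te ≤ 3 * g := by
    rw [Finset.mul_sum]
    refine (Finset.sum_le_card_nsmul _ _ g fun M hM =>
      hselfb M (Finset.mem_filter.mp hM).1 (hfree M hM)).trans ?_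
    rw [smul_eq_mul]
    exact Nat.mul_le_mul_right _ hK
  rcases Od.eq_empty_or_nonempty with e | ⟨N, hN⟩
  · have : To = 0 := by simp [To, e]
    omega
  -- odd parts of the even members
  have h8 : 8 ∣ g := by
    obtain ⟨S, hS, h4⟩ := hfour M hM
    have h1 := Subgroup.card_subgroup_dvd_card (zpowers t ⊔ S)
    rw [hS.card_sup c, h4] at h1
    exact h1
  have hparts : ∀ M ∈ Ev, Nat.card M = 4 * (Nat.card M / 4) ∧ ¬ 2 ∣ Nat.card M / 4 := by
    intro M hM
    obtain ⟨S, hS, h4⟩ := hfour M hM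
    have h1 := hS.part.card
    rw [h4] at h1
    have hd : 4 ∣ Nat.card M := by rw [h1]; exact Nat.ordProj_dvd _ 2
    refine ⟨(Nat.mul_div_cancel' hd).symm, ?_⟩
    have hnd := Nat.not_dvd_ordCompl Nat.prime_two (n := Nat.card M) Nat.card_pos.ne'
    rwa [← h1] at hnd
  let o : Subgroup G → ℕ := fun M => Nat.card M / 4
  have hoPos : ∀ M ∈ Ev, 1 ≤ o M := fun M hM => by
    have h1 := hparts M hM
    have h2 : 0 < Nat.card M := Nat.card_pos
    show 1 ≤ Nat.card M / 4
    omega
  have hoDvd : ∀ M ∈ Ev, o M ∣ Nat.card M := fun M hM => Dvd.intro_left 4 (hparts M hM).1.symm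
  have hocop : ∀ M ∈ Ev, ∀ M' ∈ Ev, M ≠ M' → (o M).Coprime (o M') := by
    intro M hM M' hM' hne'
    refine Nat.coprime_of_dvd fun p hp h1 h2 => ?_
    have hp2 : p ≠ 2 := by rintro rfl; exact (hparts M hM).2 h1
    rcases hodd_share M (Finset.mem_filter.mp hM).1 M' (Finset.mem_filter.mp hM').1 p hp hp2
      (h1.trans (hoDvd M hM)) (h2.trans (hoDvd M' hM')) with e | e
    · exact hne' e.symm
    · exact hne' (by rw [e, c.flip_eq_iff.mpr (hfree M hM)])
  have hOdvd : ∏ M ∈ Ev, o M ∣ g := prod_dvd_of_coprime' Ev o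
    (fun M hM => (hoDvd M hM).trans (Subgroup.card_subgroup_dvd_card M)) hocop
  have hop : ∀ M ∈ Ev, Nat.Coprime 24 (o M) := fun M hM => by
    have a1 : Nat.Coprime 8 (o M) :=
      (Nat.prime_two.coprime_iff_not_dvd.mpr (hparts M hM).2).pow_left 3
    exact a1.mul_left (Nat.prime_three.coprime_iff_not_dvd.mpr fun e =>
      ((hMem M).mp (Finset.mem_filter.mp hM).1).inv.not_dvd (e.trans (hoDvd M hM)))
  have h24g : 24 ∣ g := Nat.Coprime.mul_dvd_of_dvd_of_dvd (by norm_num) h8 h3g
  have hbound := hPcop (24 * ∏ M ∈ Ev, o M) (fun v hv => by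
    obtain ⟨h2, h3⟩ := hVodd v hv
    have a1 : Nat.Coprime 8 v := (Nat.prime_two.coprime_iff_not_dvd.mpr h2).pow_left 3
    refine Nat.Coprime.mul_left (a1.mul_left (Nat.prime_three.coprime_iff_not_dvd.mpr h3))
      (Nat.Coprime.prod_left fun M hM => ?_)
    obtain ⟨M', hM', rfl⟩ := Finset.mem_image.mp hv
    refine Nat.coprime_of_dvd fun p hp a b => ?_
    have hp2 : p ≠ 2 := by rintro rfl; exact h2 b
    rcases hodd_share M (Finset.mem_filter.mp hM).1 M' (Finset.mem_filter.mp hM').1 p hp hp2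
      (a.trans (hoDvd M hM)) b with e | e
    · exact h2 (by rw [e]; exact (Finset.mem_filter.mp hM).2)
    · exact h2 (by rw [e, card_map_conj]; exact (Finset.mem_filter.mp hM).2))
    ((Nat.Coprime.prod_right hop).mul_dvd_of_dvd_of_dvd h24g hOdvd)
  have hP7 : 7 ≤ ∏ v ∈ V, v := le_trans (hodd7 N hN) (Finset.single_le_prod'
    (fun v hv => le_trans (by norm_num) (hV7 v hv)) (Finset.mem_image_of_mem _ hN))
  have h168 : 168 * ∏ M ∈ Ev, o M ≤ g := by
    calc 168 * ∏ M ∈ Ev, o M = 24 * (∏ M ∈ Ev, o M) * 7 := by ring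
      _ ≤ 24 * (∏ M ∈ Ev, o M) * ∏ v ∈ V, v := Nat.mul_le_mul_left _ hP7
      _ ≤ g := hbound
  have hTe2 : Te = 4 * ∑ M ∈ Ev, o M := by
    rw [Finset.mul_sum]
    exact Finset.sum_congr rfl fun M hM => (hparts M hM).1
  have := sum_le_card_add_prod Ev o hoPos
  omega

/-- A simple group in the inductive setting has order `60` or `168`. -/
theorem card_sixty_or_168 (c : Ctx x t) : Nat.card G = 60 ∨ Nat.card G = 168 := by
  haveI := c.simple
  have h9 := nine_not_dvd c
  obtain ⟨h660, h1092, -⟩ := card_ne_of_equation c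
  rcases S0496.result c.not_comm (card_le c) with e | e | e | e | e | e <;> omega

end Cfsg.Agent.Fus.SCThree
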