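import Mathlib
import Cfsg.Agent.Lib.Fus.SelfCentThree.Count
import Cfsg.Agent.Lib.Fus.SmallSimple
import Cfsg.Agent.Lib.Block.Order168Klein
import Cfsg.Agent.S0495

/-!
The Feit–Thompson theorem on self-centralizing subgroups of order three.
-/

set_option autoImplicit false
set_option linter.style.haveILetI false
set_option linter.unusedSectionVars false
set_option linter.unusedVariables false

namespace Cfsg.Agent.Fus.SCThree

open Subgroup
open scoped commutatorElement

universe u

variable {G : Type u} [Group G] [Finite G] {x : G}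

theorem commute_primary (h : Char.SCP.Hyp 3 x) {T A B : Subgroup G} {p r : ℕ} [Fact p.Prime]
    [Fact r.Prime] (hT : IsInv x T) (hpr : p ≠ r) (hA : IsPGroup p A) (hB : IsPGroup r B) (hAT : A ≤ T)
    (hBT : B ≤ T) {a b : G} (ha : a ∈ A) (hb : b ∈ B) : Commute a b := by
  obtain ⟨i, hi⟩ := hA ⟨a, ha⟩
  obtain ⟨j, hj⟩ := hB ⟨b, hb⟩
  have hi' : (⟨a, hAT ha⟩ : T) ^ p ^ i = 1 := Subtype.ext (congrArg Subtype.val hi :)
  have hj' : (⟨b, hBT hb⟩ : T) ^ r ^ j = 1 := Subtype.ext (congrArg Subtype.val hj :)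
  exact congrArg Subtype.val (Grp.commute_of_nilpotent_coprime (hT.nilpotent h) hpr hi' hj')

theorem exists_inv_conj (h : Char.SCP.Hyp 3 x) {R : Subgroup G}
    (h3 : 3 ∣ Nat.card (normalizer (R : Set G))) :
    ∃ g : G, x ∈ normalizer (R.map (MulAut.conj g).toMonoidHom : Set G) := by
  haveI := Fact.mk Nat.prime_three
  obtain ⟨⟨y, hy⟩, hyo⟩ := exists_prime_orderOf_dvd_card' (G := normalizer (R : Set G)) 3 h3
  rw [Subgroup.orderOf_mk] at hyo
  obtain ⟨g, hg⟩ := Char.SCP.exists_conj_mem h hyo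
  refine ⟨g, ?_⟩
  have hne : g * y * g⁻¹ ≠ 1 := fun e => by
    have : y = 1 := by simpa [mul_inv_eq_one] using e
    rw [this, orderOf_one] at hyo
    omega
  have h2 : g * y * g⁻¹ ∈ normalizer (R.map (MulAut.conj g).toMonoidHom : Set G) :=
    Subgroup.le_normalizer_map _ ⟨y, hy, rfl⟩
  have h1 := Char.SCP.zpowers_eq_of_mem h hg hne
  exact zpowers_le.mpr h2 (h1 ▸ Subgroup.mem_zpowers x)

section Extension

variable {Q : Type u} [Group Q] [Finite Q] (φ : G →* Q)

theorem card_comap (hφ : Function.Surjective φ) (R : Subgroup Q) :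
    Nat.card (R.comap φ) = Nat.card R * Nat.card φ.ker := by
  have h1 := (R.comap φ).card_mul_index
  have h2 := R.card_mul_index
  have h3 := φ.ker.card_mul_index
  rw [Subgroup.index_comap_of_surjective R hφ] at h1
  rw [Subgroup.index_ker, MonoidHom.range_eq_top.mpr hφ, Subgroup.card_top] at h3
  refine Nat.eq_of_mul_eq_mul_right (Nat.pos_of_ne_zero (Subgroup.index_ne_zero_of_finite (H := R))) ?_
  rw [h1, ← h3, ← h2]; ring

theorem isInv_comap (hφ : Function.Surjective φ) (hO3 : ¬ 3 ∣ Nat.card φ.ker) {R : Subgroup Q}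
    (hR : φ x ∈ normalizer (R : Set Q)) (hR3 : ¬ 3 ∣ Nat.card R) : IsInv x (R.comap φ) := by
  refine ⟨?_, fun e => ?_⟩
  · rw [Subgroup.mem_normalizer_iff]
    intro a
    rw [Subgroup.mem_comap, Subgroup.mem_comap, map_mul, map_mul, map_inv]
    exact Subgroup.mem_normalizer_iff.mp hR _
  · rw [card_comap φ hφ] at e
    exact (Nat.prime_three.dvd_mul.mp e).elim hR3 hO3

theorem eq_top_of_simple [IsSimpleGroup Q] (hφ : Function.Surjective φ) {K : Subgroup G} [hK : K.Normal]
    (hker : φ.ker ≤ K) {T : Subgroup G} (hTK : T ≤ K) (hT : ¬ T ≤ φ.ker) : K = ⊤ := by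
  rcases IsSimpleGroup.eq_bot_or_eq_top_of_normal _ (Subgroup.Normal.map hK φ hφ) with e | e
  · exact absurd (hTK.trans ((Subgroup.map_eq_bot_iff K).mp e)) hT
  · rw [← Subgroup.comap_map_eq_self hker, e, Subgroup.comap_top]

theorem prime_not_dvd_ker [IsSimpleGroup Q] (h : Char.SCP.Hyp 3 x) (hφ : Function.Surjective φ)
    (hO3 : ¬ 3 ∣ Nat.card φ.ker) {R : Subgroup Q} {q r : ℕ} [hq : Fact q.Prime] [hr : Fact r.Prime]
    (hq3 : q ≠ 3) (hR : φ x ∈ normalizer (R : Set Q)) (hRq : IsPGroup q R) (hR1 : R ≠ ⊥) (hqr : q ≠ r) :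
    ¬ r ∣ Nat.card φ.ker := by
  intro hrd
  set O := φ.ker
  have hOi : IsInv x O := ⟨Subgroup.le_normalizer_of_normal (Subgroup.mem_top x), hO3⟩
  obtain ⟨k, hk⟩ := IsPGroup.iff_card.mp hRq
  have hR3 : ¬ 3 ∣ Nat.card R := fun e =>
    hq3 ((Nat.prime_dvd_prime_iff_eq Nat.prime_three hq.out).mp (Nat.prime_three.dvd_of_dvd_pow (hk ▸ e))).symm
  set T := R.comap φ
  have hTi : IsInv x T := isInv_comap φ hφ hO3 hR hR3
  have hOT : O ≤ T := Subgroup.ker_le_comap _ _
  obtain ⟨S, hS⟩ := exists_part h hTi q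
  obtain ⟨Z₀, hZ₀⟩ := exists_part h hOi r
  have hZn : normalizer (O : Set G) = ⊤ := Subgroup.normalizer_eq_top_iff.mpr inferInstance
  set Z := cenIn Z₀
  haveI : Z.Normal := Subgroup.normalizer_eq_top_iff.mp (top_le_iff.mp
    ((hZn.ge.trans hZ₀.norm).trans (SelfEven.normalizer_le_cenIn Z₀)))
  haveI : (centralizer (Z : Set G)).Normal := Subgroup.normal_centralizer
  have hSC : S ≤ centralizer (Z : Set G) := fun s hs => Subgroup.mem_centralizer_iff.mpr fun z hz =>
    (commute_primary h hTi hqr hS.pgroup hZ₀.pgroup hS.le (hZ₀.le.trans hOT) hs hz.1).eq.symm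
  have hSO : ¬ S ≤ O := by
    intro e
    have h1 := Nat.le_of_dvd Nat.card_pos (Subgroup.card_dvd_of_le e)
    have h2 : Nat.card S ∣ Nat.card O := Subgroup.card_dvd_of_le e
    rw [hS.card, show Nat.card T = Nat.card R * Nat.card O from card_comap φ hφ R,
      Nat.factorization_mul Nat.card_pos.ne' Nat.card_pos.ne', Finsupp.add_apply, hk,
      hq.out.factorization_pow, Finsupp.single_eq_same,
      hq.out.pow_dvd_iff_le_factorization Nat.card_pos.ne'] at h2
    have h3 : k ≠ 0 := fun e' => hR1 (Subgroup.card_eq_one.mp (by rw [hk, e', pow_zero]))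
    omega
  have hOC : O ≤ centralizer (Z : Set G) := by
    have hd : Nat.card O ∣ Nat.card (O ⊓ centralizer (Z : Set G) : Subgroup G) := by
      refine (Nat.factorization_le_iff_dvd Nat.card_pos.ne' Nat.card_pos.ne').mp fun p => ?_
      by_cases hp : p.Prime
      · haveI := Fact.mk hp
        obtain ⟨P, hP⟩ := exists_part h hOi p
        have hPle : P ≤ O ⊓ centralizer (Z : Set G) := by
          refine le_inf hP.le fun a ha => Subgroup.mem_centralizer_iff.mpr fun z hz => ?_
          by_cases hpr : p = r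
          · subst hpr
            exact (Subgroup.mem_centralizer_iff.mp hz.2 a (hZ₀.max P hP.le hP.pgroup ha)).symm
          · exact (commute_primary h hOi hpr hP.pgroup hZ₀.pgroup hP.le hZ₀.le ha hz.1).eq.symm
        refine (hp.pow_dvd_iff_le_factorization Nat.card_pos.ne').mp ?_
        rw [← hP.card]
        exact Subgroup.card_dvd_of_le hPle
      · simp [Nat.factorization_eq_zero_of_not_prime _ hp]
    exact inf_eq_left.mp (Subgroup.eq_of_le_of_card_ge inf_le_left (Nat.le_of_dvd Nat.card_pos hd))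
  have hC := eq_top_of_simple φ hφ hOC hSC hSO
  haveI : Nontrivial Z₀ := (Subgroup.nontrivial_iff_ne_bot _).mpr (hZ₀.ne_bot hrd)
  haveI := hZ₀.pgroup.center_nontrivial
  obtain ⟨⟨⟨z, hz⟩, hzc⟩, hz1⟩ := exists_ne (1 : center Z₀)
  have hzZ : z ∈ Z := ⟨hz, Subgroup.mem_centralizer_iff.mpr fun q hq =>
    congrArg Subtype.val (Subgroup.mem_center_iff.mp hzc ⟨q, hq⟩)⟩
  refine hz1 (Subtype.ext (Subtype.ext ?_))
  refine commute_eq_one h (Subgroup.mem_centralizer_iff.mp (hC.ge (Subgroup.mem_top x)) z hzZ) fun e => ?_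
  exact hO3 (e.trans (Subgroup.orderOf_dvd_natCard O (hZ₀.le hz)))

theorem ker_le_of_commutator [IsSimpleGroup Q] (h : Char.SCP.Hyp 3 x) (hφ : Function.Surjective φ)
    (hO3 : ¬ 3 ∣ Nat.card φ.ker) {T : Subgroup G} (hOT : φ.ker ≤ T) (hne : ¬ T ≤ φ.ker)
    (L : Subgroup G) [L.Normal] (hL : ∀ v ∈ T, ∀ a ∈ φ.ker, ⁅v, a⁆ ∈ L) : φ.ker ≤ L := by
  set π := QuotientGroup.mk' L
  haveI : (φ.ker.map π).Normal := Subgroup.Normal.map inferInstance π (QuotientGroup.mk'_surjective L)
  haveI : (centralizer (φ.ker.map π : Set (G ⧸ L))).Normal := Subgroup.normal_centralizer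
  set K := (centralizer (φ.ker.map π : Set (G ⧸ L))).comap π
  have hTK : T ≤ K := by
    intro v hv
    rw [Subgroup.mem_comap, Subgroup.mem_centralizer_iff]
    rintro _ ⟨a, ha, rfl⟩
    have h1 : π ⁅v, a⁆ = 1 := (QuotientGroup.eq_one_iff _).mpr (hL v hv a ha)
    rw [map_commutatorElement, commutatorElement_eq_one_iff_mul_comm] at h1
    exact h1.symm
  have hK := eq_top_of_simple φ hφ (K := K) (hOT.trans hTK) hTK hne
  intro b hb
  have hOi : IsInv x φ.ker := ⟨Subgroup.le_normalizer_of_normal (Subgroup.mem_top x), hO3⟩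
  obtain ⟨⟨a, ha⟩, hab⟩ := (hOi.isFpf h).surj ⟨b, hb⟩
  have hab' : a⁻¹ * (x * a * x⁻¹) = b := congrArg Subtype.val hab
  have hx := Subgroup.mem_centralizer_iff.mp (hK.ge (Subgroup.mem_top x) : x ∈ K) (π a) ⟨a, ha, rfl⟩
  refine (QuotientGroup.eq_one_iff b).mp ?_
  show π b = 1
  rw [← hab', map_mul, map_mul, map_mul, map_inv, map_inv, ← hx]
  group

theorem ker_elementary [IsSimpleGroup Q] (h : Char.SCP.Hyp 3 x) (hφ : Function.Surjective φ)
    (hO3 : ¬ 3 ∣ Nat.card φ.ker) {R : Subgroup Q} (hR : φ x ∈ normalizer (R : Set Q))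
    (hRc : Nat.card R = 4) (hRsq : ∀ v ∈ R, v * v = 1) :
    IsMulCommutative φ.ker ∧ ∀ a ∈ φ.ker, a ^ 2 = 1 := by
  haveI := Fact.mk Nat.prime_two
  set T := R.comap φ
  have hTi : IsInv x T := isInv_comap φ hφ hO3 hR (by rw [hRc]; norm_num)
  have hOT : φ.ker ≤ T := Subgroup.ker_le_comap _ _
  have hne : ¬ T ≤ φ.ker := fun e => by
    have h1 := Nat.le_of_dvd Nat.card_pos (Subgroup.card_dvd_of_le e)
    rw [show Nat.card T = Nat.card R * Nat.card φ.ker from card_comap φ hφ R, hRc] at h1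
    have : 0 < Nat.card φ.ker := Nat.card_pos
    omega
  set O := φ.ker
  haveI : (cenIn O).Normal := Subgroup.normalizer_eq_top_iff.mp (top_le_iff.mp
    ((Subgroup.normalizer_eq_top_iff.mpr (inferInstance : O.Normal)).ge.trans
      (SelfEven.normalizer_le_cenIn O)))
  have hcomm := ker_le_of_commutator φ h hφ hO3 hOT hne (cenIn O) fun v hv a ha => by
    refine Subgroup.mem_inf.mpr ⟨?_, Subgroup.mem_centralizer_iff.mpr fun q hq =>
      (hTi.classTwo h hv (hOT ha) (hOT hq)).eq.symm⟩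
    rw [commutatorElement_def]
    exact mul_mem (show v * a * v⁻¹ ∈ O from (inferInstance : O.Normal).conj_mem a ha v)
      (inv_mem (show a ∈ O from ha))
  haveI hcO : IsMulCommutative O := ⟨⟨fun a b => Subtype.ext
    (Subgroup.mem_centralizer_iff.mp (hcomm b.2).2 a a.2)⟩⟩
  let L : Subgroup G :=
    { carrier := {a | a ∈ O ∧ a ^ 2 = 1}
      one_mem' := ⟨one_mem _, one_pow 2⟩
      mul_mem' := fun {p q} hp hq => ⟨mul_mem hp.1 hq.1, by
        have hc : Commute p q := congrArg Subtype.val (mul_comm' (⟨p, hp.1⟩ : O) ⟨q, hq.1⟩)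
        rw [hc.mul_pow, hp.2, hq.2, mul_one]⟩
      inv_mem' := fun {p} hp => ⟨inv_mem hp.1, by rw [inv_pow, hp.2, inv_one]⟩ }
  haveI : L.Normal := ⟨fun a ha g => ⟨(inferInstance : O.Normal).conj_mem a ha.1 g, by
    rw [conj_pow, ha.2, mul_one, mul_inv_cancel]⟩⟩
  have hsq := ker_le_of_commutator φ h hφ hO3 hOT hne L fun v hv a ha => by
    have hc : ⁅v, a⁆ ∈ O := by
      rw [commutatorElement_def]
      exact mul_mem ((inferInstance : O.Normal).conj_mem a ha v) (inv_mem ha)
    refine ⟨hc, ?_⟩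
    have hv2 : v * v ∈ O := by
      rw [MonoidHom.mem_ker, map_mul]
      exact hRsq _ hv
    have e1 : ⁅v * v, a⁆ = 1 := commutatorElement_eq_one_iff_mul_comm.mpr
      (congrArg Subtype.val (mul_comm' (⟨_, hv2⟩ : O) ⟨a, ha⟩))
    have e2 : ⁅v * v, a⁆ = v * ⁅v, a⁆ * v⁻¹ * ⁅v, a⁆ := by
      simp only [commutatorElement_def]; group
    rw [(hTi.classTwo h hv (hOT ha) hv).eq.symm, mul_inv_cancel_right] at e2
    rw [pow_two, ← e2, e1]
  exact ⟨hcO, fun a ha => (hsq ha).2⟩

end Extension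

theorem exists_inverting (h : Char.SCP.Hyp 3 x) (h6 : Nat.card (normalizer (zpowers x : Set G)) = 6) :
    ∃ t : G, t * t = 1 ∧ t ≠ 1 ∧ t * x * t⁻¹ = x⁻¹ := by
  haveI := Fact.mk Nat.prime_two
  obtain ⟨⟨t, ht⟩, hto⟩ := exists_prime_orderOf_dvd_card' (G := normalizer (zpowers x : Set G)) 2
    (by rw [h6]; norm_num)
  rw [Subgroup.orderOf_mk] at hto
  have ht1 : t ≠ 1 := fun e => by rw [e, orderOf_one] at hto; omega
  refine ⟨t, by rw [← pow_two, ← hto, pow_orderOf_eq_one], ht1, ?_⟩
  have hm : t * x * t⁻¹ ∈ zpowers x :=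
    (Subgroup.mem_normalizer_iff.mp ht x).mp (Subgroup.mem_zpowers x)
  rcases eq_of_mem_zpowers h hm with e | e | e
  · exact absurd (by simpa [mul_inv_eq_one] using e) (x_ne_one h)
  · exfalso
    refine ht1 (commute_eq_one h (mul_inv_eq_iff_eq_mul.mp e) ?_)
    rw [hto]; norm_num
  · rw [e]
    refine (inv_eq_of_mul_eq_one_right ?_).symm
    rw [← pow_three]; exact pow_three_eq h

theorem card_normalizer_cases (h : Char.SCP.Hyp 3 x) :
    Nat.card (normalizer (zpowers x : Set G)) = 3 ∨ Nat.card (normalizer (zpowers x : Set G)) = 6 := by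
  haveI := Fact.mk Nat.prime_three
  have h1 := Char.SCP.card_N h
  have h2 := Char.SCP.e_dvd h
  rcases (Nat.dvd_prime Nat.prime_two).mp h2 with e | e <;> rw [e] at h1
  · exact Or.inl h1
  · exact Or.inr h1

/-- Burnside: if the Sylow subgroup is self-normalizing there is a normal complement. -/
theorem exists_complement (h : Char.SCP.Hyp 3 x) (h3 : Nat.card (normalizer (zpowers x : Set G)) = 3) :
    ∃ N : Subgroup G, N.Normal ∧ ¬ 3 ∣ Nat.card N ∧ N.index = 3 := by
  haveI := Fact.mk Nat.prime_three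
  obtain ⟨P, hP⟩ := Char.SCP.exists_sylow h
  have hPc : Nat.card (P : Subgroup G) = 3 := by rw [hP]; exact Char.SCP.card_P h
  have hN : normalizer ((P : Subgroup G) : Set G) ≤ centralizer ((P : Subgroup G) : Set G) := by
    rw [hP, Char.SCP.cent_P h]
    refine (Subgroup.eq_of_le_of_card_ge Subgroup.le_normalizer ?_).ge
    rw [h3, Char.SCP.card_P h]
  have hc := MonoidHom.ker_transferSylow_isComplement' P hN
  set N := (MonoidHom.transferSylow P hN).ker
  have hidx : N.index = 3 := hc.symm.index_eq_card.trans hPc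
  refine ⟨N, inferInstance, fun e => ?_, hidx⟩
  have h1 := N.card_mul_index
  rw [hidx] at h1
  obtain ⟨k, hk⟩ := e
  have h9 : 3 ^ 2 ∣ Nat.card G := ⟨k, by rw [← h1, hk]; ring⟩
  have h2 := (Nat.prime_three.pow_dvd_iff_le_factorization Nat.card_pos.ne').mp h9
  rw [Char.SCP.fac h] at h2
  omega

theorem perm_three_of_card {Q : Type u} [Group Q] [Finite Q] {y : Q} (h : Char.SCP.Hyp 3 y)
    (h6 : Nat.card Q = 6) : Nonempty (Q ≃* Equiv.Perm (Fin 3)) := by
  refine Grp.SpectrumFour.perm_three (fun g => ?_) h6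
  by_contra hgt
  have h1 : orderOf g ∣ 6 := h6 ▸ orderOf_dvd_natCard g
  have h2 : orderOf g = 6 := by
    have := Nat.le_of_dvd (by norm_num) h1
    interval_cases hk : orderOf g <;> omega
  haveI := Fact.mk Nat.prime_three
  have h3 : orderOf (g ^ 2) = 3 := by
    rw [orderOf_pow' g two_ne_zero, h2]
    norm_num
  have h4 := (Char.SCP.hyp_of_ord h h3).cent
  have h5 : g ∈ zpowers (g ^ 2) := h4 ▸ Subgroup.mem_centralizer_singleton_iff.mpr
    ((Commute.refl g).pow_right 2).eq
  have h6' := Subgroup.orderOf_dvd_natCard _ h5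
  rw [Nat.card_zpowers, h3, h2] at h6'
  omega

/-- The theorem, by induction on the order. -/
theorem concl_aux : ∀ (n : ℕ) (G : Type u) [Group G] [Finite G] (x : G),
    Nat.card G = n → Char.SCP.Hyp 3 x → Concl G := by
  intro n
  induction n using Nat.strong_induction_on with
  | _ n ih =>
  intro G _ _ x hn h
  haveI := Fact.mk Nat.prime_three
  have cop : ∀ N : Subgroup G, ¬ 3 ∣ Nat.card N → (Nat.card N).Coprime 3 := fun N hN =>
    (Nat.prime_three.coprime_iff_not_dvd.mpr hN).symm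
  rcases card_normalizer_cases h with h3 | h6
  · obtain ⟨N, hN, hN3, hidx⟩ := exists_complement h h3
    exact Or.inl ⟨N, hN, IsInv.nilpotent (x := x) ⟨Subgroup.le_normalizer_of_normal (Subgroup.mem_top x), hN3⟩ h,
      cop N hN3, Or.inl ((Subgroup.index_eq_card N).symm.trans hidx)⟩
  obtain ⟨O, -, hO⟩ := Finite.exists_le_maximal (p := fun N : Subgroup G => N.Normal ∧ ¬ 3 ∣ Nat.card N)
    (a := ⊥) ⟨inferInstance, by rw [Subgroup.card_bot]; norm_num⟩
  obtain ⟨hOn, hO3⟩ := hO.prop
  haveI := hOn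
  have hOi : IsInv x O := ⟨Subgroup.le_normalizer_of_normal (Subgroup.mem_top x), hO3⟩
  have hOnil := hOi.nilpotent h
  set π := QuotientGroup.mk' O with hπ
  set y := π x with hy
  have hh : Char.SCP.Hyp 3 y := hyp_quotient h O hO3
  obtain ⟨t, ht2, ht1, htx⟩ := exists_inverting h h6
  set s := π t with hs
  have hs2 : s * s = 1 := by rw [hs, ← map_mul, ht2, map_one]
  have hsy : s * y * s⁻¹ = y⁻¹ := by rw [hs, hy, ← map_inv, ← map_mul, ← map_mul, htx, map_inv]
  have hs1 : s ≠ 1 := fun e => by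
    rw [e, one_mul, inv_one, mul_one] at hsy
    have : y * y = 1 := by rw [← mul_inv_cancel y, ← hsy]
    have h2 : orderOf y ∣ 2 := orderOf_dvd_of_pow_eq_one (by rw [pow_two]; exact this)
    rw [hh.ord] at h2
    omega
  have hsN : s ∈ normalizer (zpowers y : Set (G ⧸ O)) := mem_normalizer_of_map_conj (by
    rw [MonoidHom.map_zpowers, MulEquiv.coe_toMonoidHom, MulAut.conj_apply, hsy, zpowers_inv])
  have hy6 : Nat.card (normalizer (zpowers y : Set (G ⧸ O))) = 6 := by
    refine (card_normalizer_cases hh).resolve_left fun e => ?_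
    have h1 := Subgroup.orderOf_dvd_natCard _ hsN
    rw [orderOf_eq_prime (p := 2) (by rw [pow_two]; exact hs2) hs1, e] at h1
    omega
  have hnorm3 : ∀ K : Subgroup (G ⧸ O), K.Normal → ¬ 3 ∣ Nat.card K → K = ⊥ := by
    intro K hK hK3
    have hsurj : Function.Surjective π := QuotientGroup.mk'_surjective O
    have h1 : O ≤ K.comap π := by
      conv_lhs => rw [← QuotientGroup.ker_mk' O]
      exact Subgroup.ker_le_comap _ _
    have h2 : (K.comap π).Normal ∧ ¬ 3 ∣ Nat.card (K.comap π) := by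
      refine ⟨hK.comap π, fun e => ?_⟩
      rw [card_comap π hsurj, QuotientGroup.ker_mk'] at e
      exact (Nat.prime_three.dvd_mul.mp e).elim hK3 hO3
    have h3 := le_antisymm (hO.2 h2 h1) h1
    rw [← Subgroup.map_comap_eq_self_of_surjective hsurj K, h3, QuotientGroup.map_mk'_self]
  by_cases h6' : Nat.card (G ⧸ O) = 6
  · exact Or.inl ⟨O, hOn, hOnil, cop O hO3, Or.inr (perm_three_of_card hh h6')⟩
  haveI : Nontrivial (G ⧸ O) := ⟨⟨y, 1, x_ne_one hh⟩⟩
  haveI hsimple : IsSimpleGroup (G ⧸ O) := by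
    refine ⟨fun K hK => ?_⟩
    by_contra hcon
    push Not at hcon
    obtain ⟨hKb, hKt⟩ := hcon
    have hK3 : 3 ∣ Nat.card K := by
      by_contra e
      exact hKb (hnorm3 K hK e)
    have hyK : y ∈ K := by
      obtain ⟨⟨w, hw⟩, hwo⟩ := exists_prime_orderOf_dvd_card' (G := K) 3 hK3
      rw [Subgroup.orderOf_mk] at hwo
      obtain ⟨c, hc⟩ := Char.SCP.exists_conj_mem hh hwo
      have hne : c * w * c⁻¹ ≠ 1 := fun e => by
        have : w = 1 := by simpa [mul_inv_eq_one] using e
        rw [this, orderOf_one] at hwo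
        omega
      exact zpowers_le.mpr (hK.conj_mem w hw c)
        ((Char.SCP.zpowers_eq_of_mem hh hc hne).symm ▸ Subgroup.mem_zpowers y)
    obtain ⟨P, hP⟩ := Char.SCP.exists_sylow (hyp_subgroup hh hyK)
    have hPm : (P : Subgroup K).map K.subtype = zpowers y := by
      rw [hP, Char.SCP.P, MonoidHom.map_zpowers]
      rfl
    have hfr := Sylow.normalizer_sup_eq_top P
    rw [hPm] at hfr
    by_cases hsK : s ∈ K
    · refine hKt (top_le_iff.mp (hfr ▸ sup_le ?_ le_rfl))
      have hle : normalizer (zpowers y : Set (G ⧸ O)) ⊓ K = normalizer (zpowers y : Set (G ⧸ O)) := by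
        refine Subgroup.eq_of_le_of_card_ge inf_le_left ?_
        rw [hy6]
        refine Nat.le_of_dvd Nat.card_pos (Nat.Coprime.mul_dvd_of_dvd_of_dvd (m := 2) (n := 3) (by norm_num) ?_ ?_)
        · rw [← orderOf_eq_prime (p := 2) (by rw [pow_two]; exact hs2) hs1]
          exact Subgroup.orderOf_dvd_natCard _ ⟨hsN, hsK⟩
        · rw [← hh.ord]
          exact Subgroup.orderOf_dvd_natCard _ ⟨Subgroup.le_normalizer (Subgroup.mem_zpowers y), hyK⟩
      exact hle ▸ inf_le_right
    · have hKh := hyp_subgroup hh hyK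
      have hK3n : Nat.card (normalizer (zpowers (⟨y, hyK⟩ : K) : Set K)) = 3 := by
        refine (card_normalizer_cases hKh).resolve_right fun e => ?_
        obtain ⟨t', ht'2, ht'1, ht'x⟩ := exists_inverting hKh e
        have ht2' : (t' : G ⧸ O) * t' = 1 := congrArg Subtype.val ht'2
        have htx' : (t' : G ⧸ O) * y * (t' : G ⧸ O)⁻¹ = y⁻¹ := congrArg Subtype.val ht'x
        have hc : s * (t' : G ⧸ O) * y = y * (s * t') := by
          have e1 : (t' : G ⧸ O) * y = y⁻¹ * t' := mul_inv_eq_iff_eq_mul.mp htx'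
          have e2 : s * y⁻¹ = y * s := by
            refine mul_inv_eq_iff_eq_mul.mp ?_
            rw [← conj_inv, hsy, inv_inv]
          rw [mul_assoc, e1, ← mul_assoc, e2, mul_assoc]
        have hmem : s * (t' : G ⧸ O) ∈ zpowers y := Char.SCP.mem_P_of_comm hh hc
        have := mul_mem ((zpowers_le.mpr hyK) hmem) t'.2
        rw [mul_assoc, ht2', mul_one] at this
        exact hsK this
      obtain ⟨N, hN, hN3, hNi⟩ := exists_complement hKh hK3n
      haveI : N.Characteristic := Subgroup.characteristic_iff_map_eq.mpr fun φ => by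
        refine Subgroup.eq_of_le_of_card_ge ?_ (Subgroup.card_map_of_injective φ.injective).ge
        intro a ha
        haveI : (N.map φ.toMonoidHom).Normal := Subgroup.Normal.map hN _ φ.surjective
        obtain ⟨b, hb, rfl⟩ := ha
        have ho : ¬ 3 ∣ orderOf (φ.toMonoidHom b) := fun e => hN3 (e.trans (by
          rw [show φ.toMonoidHom b = φ b from rfl, MulEquiv.orderOf_eq]
          exact Subgroup.orderOf_dvd_natCard N hb))
        have hq : (QuotientGroup.mk' N (φ.toMonoidHom b)) = 1 := by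
          rw [← orderOf_eq_one_iff]
          have d1 := orderOf_map_dvd (QuotientGroup.mk' N) (φ.toMonoidHom b)
          have d2 : orderOf (QuotientGroup.mk' N (φ.toMonoidHom b)) ∣ 3 := by
            rw [← hNi, Subgroup.index_eq_card]; exact orderOf_dvd_natCard _
          rcases (Nat.dvd_prime Nat.prime_three).mp d2 with e | e
          · exact e
          · exact absurd (e ▸ d1) ho
        exact (QuotientGroup.eq_one_iff _).mp hq
      have hNG : (N.map K.subtype).Normal := by
        haveI := hK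
        infer_instance
      have hNb := hnorm3 _ hNG (by rwa [Subgroup.card_map_of_injective K.subtype_injective])
      rw [Subgroup.map_eq_bot_iff_of_injective _ K.subtype_injective] at hNb
      rw [hNb, Subgroup.index_bot] at hNi
      have hKy : K = zpowers y := (Subgroup.eq_of_le_of_card_ge (zpowers_le.mpr hyK) (by
        rw [hNi, Nat.card_zpowers, hh.ord])).symm
      refine h6' ?_
      rw [← hy6, ← hKy, Subgroup.normalizer_eq_top_iff.mpr hK, Subgroup.card_top]
  have hna : ¬ IsMulCommutative (G ⧸ O) := fun hc => by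
    refine x_ne_one hh ?_
    have h1 : y * y = 1 := by
      rw [← mul_inv_cancel y, ← hsy, mul_comm' s y, mul_inv_cancel_right]
    have h2 : orderOf y ∣ 2 := orderOf_dvd_of_pow_eq_one (by rw [pow_two]; exact h1)
    rw [hh.ord] at h2
    omega
  have hle : Nat.card (G ⧸ O) ≤ n := by
    rw [← hn, ← Subgroup.index_eq_card]
    exact Nat.le_of_dvd Nat.card_pos O.index_dvd_card
  have c : Ctx y s := ⟨hh, hsimple, hna, hy6, hs2, hs1, hsy, fun H hH hyH =>
    ih (Nat.card H) (lt_of_lt_of_le (lt_of_le_of_ne (Nat.le_of_dvd Nat.card_pos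
      (Subgroup.card_subgroup_dvd_card H)) fun e => hH (Subgroup.eq_top_of_card_eq H e)) hle)
      H ⟨y, hyH⟩ rfl (hyp_subgroup hh hyH)⟩
  have hπs : Function.Surjective π := QuotientGroup.mk'_surjective O
  have hker : π.ker = O := QuotientGroup.ker_mk' O
  have hO3' : ¬ 3 ∣ Nat.card π.ker := by rw [hker]; exact hO3
  rcases card_sixty_or_168 c with h60 | h168
  · obtain ⟨ψ⟩ := alternating_five_of_card h60
    obtain ⟨V, hV, -, -⟩ := exists_fours (ψ y) (by rw [← map_pow, pow_three_eq hh, map_one])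
      (fun e => x_ne_one hh (ψ.injective (e.trans (map_one ψ).symm)))
    obtain ⟨hVc, hVn, hVsq⟩ := hV 0
    let R : Subgroup (G ⧸ O) := (V 0).map ψ.symm.toMonoidHom
    have hRn : π x ∈ normalizer (R : Set (G ⧸ O)) := by
      have := Subgroup.le_normalizer_map (H := V 0) ψ.symm.toMonoidHom ⟨ψ y, hVn, ψ.symm_apply_apply y⟩
      exact this
    have hRc : Nat.card R = 4 := by
      rw [Subgroup.card_map_of_injective ψ.symm.injective, hVc]
    obtain ⟨hc, hsq⟩ := ker_elementary π h hπs hO3' hRn hRc (by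
      rintro _ ⟨v, hv, rfl⟩
      rw [← map_mul, hVsq v hv, map_one])
    exact Or.inr (Or.inl ⟨O, hOn, hker ▸ hc, fun a ha => hsq a (hker.ge ha), ⟨ψ⟩⟩)
  · refine Or.inr (Or.inr ?_)
    haveI := Fact.mk Nat.prime_two
    haveI := Fact.mk (show Nat.Prime 7 by norm_num)
    obtain ⟨P⟩ : Nonempty (Sylow 7 (G ⧸ O)) := inferInstance
    obtain ⟨hP7, -, hP21, -⟩ := Block.o168_seven h168 P
    obtain ⟨g, hg⟩ := exists_inv_conj hh (R := (P : Subgroup (G ⧸ O))) (by rw [hP21]; norm_num)
    obtain ⟨T⟩ : Nonempty (Sylow 2 (G ⧸ O)) := inferInstance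
    have hK := Block.sylFour_klein h168 T 0
    obtain ⟨g', hg'⟩ := exists_inv_conj hh (R := Block.sylFour h168 T 0)
      (by rw [Block.klein_normalizer_card h168 hK]; norm_num)
    have hO1 : O = ⊥ := by
      rw [← Subgroup.card_eq_one]
      by_contra hne
      obtain ⟨r, hr, hrd⟩ := Nat.exists_prime_and_dvd hne
      haveI := Fact.mk hr
      rw [← hker] at hrd
      by_cases hr7 : r = 7
      · refine prime_not_dvd_ker π h hπs hO3' (q := 2) (r := r) (by norm_num) hg' ?_ ?_ (by omega) hrd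
        · exact IsPGroup.of_card (n := 2) (by rw [card_map_conj, hK.card_four]; norm_num)
        · intro e
          have := card_map_conj (Block.sylFour h168 T 0) g'
          rw [e, Subgroup.card_bot, hK.card_four] at this
          omega
      · refine prime_not_dvd_ker π h hπs hO3' (q := 7) (r := r) (by norm_num) hg ?_ ?_ (by omega) hrd
        · exact IsPGroup.of_card (n := 1) (by rw [card_map_conj, hP7, pow_one])
        · intro e
          have := card_map_conj (P : Subgroup (G ⧸ O)) g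
          rw [e, Subgroup.card_bot, hP7] at this
          omega
    obtain ⟨e⟩ := S0495.result (G := G ⧸ O) h168 (F := ZMod 7) (ZMod.card 7)
    exact ⟨(MulEquiv.ofBijective π ⟨(MonoidHom.ker_eq_bot_iff π).mp (hker.trans hO1), hπs⟩).trans e⟩

/-- A finite group with a self-centralizing subgroup of order three. -/
theorem concl_of_self_centralizing {G : Type u} [Group G] [Finite G] {X : Subgroup G}
    (hX : Nat.card X = 3) (hC : centralizer (X : Set G) = X) : Concl G := by
  obtain ⟨x, hx, -⟩ := exists_hyp hX hC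
  exact concl_aux _ G x rfl hx

end Cfsg.Agent.Fus.SCThree
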